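import Cfsg.Agent.Scn.C

/-! S4415, the 2-group part (helper3): `FG` (a four-group permuted by an automorphism of order 3), `two_group`. -/

set_option autoImplicit false
set_option linter.unusedSectionVars false

namespace Cfsg.Agent.Jb3

open Subgroup Scn
open scoped commutatorElement

variable {X : Type*} [Group X] [Finite X]

/-- the four-group generated by commuting involutions -/
def k4 (a b : X) (ha : a * a = 1) (hb : b * b = 1) (hab : b * a = a * b) : Subgroup X where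
  carrier := {y | y = 1 ∨ y = a ∨ y = b ∨ y = a * b}
  one_mem' := Or.inl rfl
  mul_mem' := by
    have e1 : a * (a * b) = b := by rw [← mul_assoc, ha, one_mul]
    have e2 : b * (a * b) = a := by rw [← hab, ← mul_assoc, hb, one_mul]
    have e3 : a * b * a = b := by rw [mul_assoc, hab, e1]
    have e4 : a * b * b = a := by rw [mul_assoc, hb, mul_one]
    have e5 : a * b * (a * b) = 1 := by rw [mul_assoc, e2, ha]
    rintro x y (rfl | rfl | rfl | rfl) (rfl | rfl | rfl | rfl) <;> simp [*]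
  inv_mem' := by
    have e5 : a * b * (a * b) = 1 := by rw [mul_assoc, ← hab, ← mul_assoc b, hb, one_mul, ha]
    rintro x (rfl | rfl | rfl | rfl)
    · simp
    · rw [inv_eq_of_mul_eq_one_right ha]; simp
    · rw [inv_eq_of_mul_eq_one_right hb]; simp
    · rw [inv_eq_of_mul_eq_one_right e5]; simp

/-- `q`, `φ q`, `φ² q` are the involutions of a four-group -/
structure FG (φ : MulAut X) (q : X) : Prop where
  sq : q * q = 1
  ne : φ q ≠ q
  aa : φ (φ q) = q * φ q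

namespace FG
variable {φ : MulAut X} {q : X} (h : FG φ q)
include h

theorem sq' : φ q * φ q = 1 := by rw [← map_mul, h.sq, map_one]
theorem comm : φ q * q = q * φ q := by
  have : q * φ q * (q * φ q) = 1 := by rw [← h.aa, ← map_mul, h.sq', map_one]
  rw [← inv_eq_of_mul_eq_one_right this, mul_inv_rev, inv_eq_of_mul_eq_one_right h.sq,
    inv_eq_of_mul_eq_one_right h.sq']
theorem ne1 : q ≠ 1 := fun e => h.ne (by rw [e, map_one])
theorem ne1' : φ q ≠ 1 := fun e => h.ne1 ((map_eq_one_iff _ φ.injective).1 e)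
theorem a3 : φ (q * φ q) = q := by rw [map_mul, h.aa, ← mul_assoc, h.comm, mul_assoc, h.sq', mul_one]
theorem next : FG φ (φ q) := ⟨h.sq', fun e => h.ne (φ.injective e), by rw [← map_mul, h.aa]⟩

/-- the four-group -/
def Q : Subgroup X := k4 q (φ q) h.sq h.sq' h.comm

theorem mem_Q {y : X} : y ∈ h.Q ↔ y = 1 ∨ y = q ∨ y = φ q ∨ y = q * φ q := Iff.rfl
theorem m1 : q ∈ h.Q := Or.inr (Or.inl rfl)
theorem m2 : φ q ∈ h.Q := Or.inr (Or.inr (Or.inl rfl))
theorem Qsq : ∀ y ∈ h.Q, y * y = 1 := by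
  rintro y (rfl | rfl | rfl | rfl)
  exacts [one_mul _, h.sq, h.sq', by rw [← h.aa, ← map_mul, h.sq', map_one]]
theorem Qφ : ∀ y ∈ h.Q, φ y ∈ h.Q := by
  rintro y (rfl | rfl | rfl | rfl)
  exacts [by rw [map_one]; exact one_mem _, h.m2, h.aa ▸ mul_mem h.m1 h.m2, by rw [h.a3]; exact h.m1]
theorem Qfix : ∀ y ∈ h.Q, φ y = y → y = 1 := by
  rintro y (rfl | rfl | rfl | rfl) e
  · rfl
  · exact absurd e h.ne
  · exact absurd e h.next.ne
  · exact absurd (mul_eq_left.1 (e.symm.trans h.a3)) h.ne1'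
theorem Qle {K : Subgroup X} (h1 : q ∈ K) (h2 : φ q ∈ K) : h.Q ≤ K := by
  rintro y (rfl | rfl | rfl | rfl)
  exacts [one_mem _, h1, h2, mul_mem h1 h2]
theorem Qcard : Nat.card h.Q = 4 := by
  classical
  refine le_antisymm ?_ (four_le h.Qsq h.m1 h.m2 h.ne1 h.ne1' h.ne.symm)
  have : Fintype X := Fintype.ofFinite _
  rw [← card_filter_mem h.Q (· ∈ h.Q) fun _ => Iff.rfl]
  refine (Finset.card_le_card (t := {1, q, φ q, q * φ q}) fun x hx => ?_).trans Finset.card_le_four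
  simpa [h.mem_Q] using hx

end FG

theorem omega_triv (hX : IsPGroup 2 X) {B : Subgroup X} (hB : B.Characteristic)
    (hc : ∀ x ∈ B, ∀ y ∈ B, x * y = y * x) {a : MulAut X} (ho : Odd (orderOf a))
    (h1 : ∀ w ∈ tor B hc 2, a w = w) : ∀ b ∈ B, a b = b := by
  have h2 : ∀ n : ℕ, ∀ b ∈ B, b ^ 2 ^ n = 1 → a b = b := by
    intro n
    induction n with
    | zero => intro b _ h; rw [pow_zero, pow_one] at h; rw [h, map_one]
    | succ n ih =>
      intro b hb h
      have e := ih (b ^ 2) (pow_mem hb 2) (by rw [← pow_mul, ← pow_succ', h])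
      have m : b⁻¹ * a b ∈ tor B hc 2 := ⟨mul_mem (inv_mem hb) (chr_app hB a hb), by
        rw [(show Commute b⁻¹ (a b) from hc _ (inv_mem hb) _ (chr_app hB a hb)).mul_pow, ← map_pow, e,
          inv_pow, inv_mul_cancel]⟩
      exact fixm ho (by rw [← pow_two, m.2]) (h1 _ m) (by group)
  intro b hb
  obtain ⟨k, hk⟩ := hX b
  exact h2 k b hb hk

/-- central involutions fixed by `φ` -/
def Z0 (φ : MulAut X) : Subgroup X where
  carrier := {u | u ∈ center X ∧ u * u = 1 ∧ φ u = u}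
  one_mem' := ⟨one_mem _, one_mul _, map_one _⟩
  mul_mem' := fun {a b} ha hb => ⟨mul_mem ha.1 hb.1, by
    rw [(show Commute b a from mem_center_iff.1 ha.1 b).mul_mul_mul_comm, ha.2.1, hb.2.1, one_mul], by
    rw [map_mul, ha.2.2, hb.2.2]⟩
  inv_mem' := fun {a} ha => ⟨inv_mem ha.1, by rw [← mul_inv_rev, ha.2.1, inv_one], by rw [map_inv, ha.2.2]⟩

theorem Z0c {φ : MulAut X} {u : X} (h : u ∈ Z0 φ) (x : X) : x * u = u * x := mem_center_iff.1 h.1 x

/-- the elements centralizing `k` modulo `Z0` -/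
def Th (φ : MulAut X) (k : X) : Subgroup X where
  carrier := {g | ⁅g, k⁆ ∈ Z0 φ}
  one_mem' := by simp [one_mem]
  mul_mem' := fun {a b} ha hb => by
    have : ⁅a * b, k⁆ = a * ⁅b, k⁆ * a⁻¹ * ⁅a, k⁆ := by simp only [commutatorElement_def]; group
    change ⁅a * b, k⁆ ∈ Z0 φ
    rw [this, Z0c hb, mul_inv_cancel_right]
    exact mul_mem hb ha
  inv_mem' := fun {a} ha => by
    have : ⁅a⁻¹, k⁆ = a⁻¹ * ⁅a, k⁆⁻¹ * a := by simp only [commutatorElement_def]; group
    change ⁅a⁻¹, k⁆ ∈ Z0 φ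
    rw [this, Z0c (inv_mem ha), inv_mul_cancel_right]
    exact inv_mem ha

theorem Zl {φ : MulAut X} {a b k : X} (hb : ⁅b, k⁆ ∈ Z0 φ) : ⁅a * b, k⁆ = ⁅a, k⁆ * ⁅b, k⁆ := by
  have : ⁅a * b, k⁆ = a * ⁅b, k⁆ * a⁻¹ * ⁅a, k⁆ := by simp only [commutatorElement_def]; group
  rw [this, Z0c hb, mul_inv_cancel_right, Z0c hb]

theorem Zr {φ : MulAut X} {a k l : X} (hb : ⁅a, l⁆ ∈ Z0 φ) : ⁅a, k * l⁆ = ⁅a, k⁆ * ⁅a, l⁆ := by
  have : ⁅a, k * l⁆ = ⁅a, k⁆ * (k * ⁅a, l⁆) * k⁻¹ := by simp only [commutatorElement_def]; group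
  rw [this, Z0c hb]; group

theorem exists_FG (hX : IsPGroup 2 X) {φ : MulAut X} (h3 : ∀ x, φ (φ (φ x)) = x)
    (hgen : closure {g : X | ∃ x, g = x⁻¹ * φ x} = ⊤) {q0 : X} (h0 : FG φ q0) :
    ∃ q, FG φ q ∧ ∀ x : X, ⁅x, q⁆ ∈ Z0 φ := by
  have o3 : orderOf φ ∣ 3 := orderOf_dvd_of_pow_eq_one (by ext x; exact h3 x)
  have ho : Odd (orderOf φ) := (by decide : Odd 3).of_dvd_nat o3
  by_cases hch : ∀ H : Subgroup X, H.Characteristic → IsMulCommutative H → ∀ h ∈ H, φ h = h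
  · obtain ⟨hsp, hfix⟩ := S0119.result hX (zpowers φ) (by
      rw [Nat.card_zpowers]; exact Nat.coprime_two_right.2 ho) (by
      refine eq_top_iff.2 (hgen ▸ closure_mono ?_)
      rintro _ ⟨x, rfl⟩
      exact ⟨x, φ, mem_zpowers φ, rfl⟩) fun H h1 h2 a ha h hh =>
        (zpowers_le (H := MulAction.stabilizer (MulAut X) h)).2 (hch H h1 h2 h hh) ha
    have hsq : ∀ x : X, x * x ∈ center X := fun x => by
      rw [← pow_two]; exact hsp.2.1 ▸ Solv.pow_mem_frattini hX x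
    have hcm : ∀ x y : X, ⁅x, y⁆ ∈ center X := fun a b =>
      hsp.2.2 ▸ commutator_mem_commutator (mem_top a) (mem_top b)
    refine ⟨q0, h0, fun x => ⟨hcm _ _, ?_, (hfix _).1 (hcm _ _) φ (mem_zpowers φ)⟩⟩
    rw [← comm_mul hcm]
    exact commutatorElement_eq_one_iff_mul_comm.2 (mem_center_iff.1 (hsq q0) x)
  push Not at hch
  obtain ⟨B, hB, hBc, b, hb, hab⟩ := hch
  have hc : ∀ x ∈ B, ∀ y ∈ B, x * y = y * x := fun x hx y hy =>
    congrArg Subtype.val (hBc.is_comm.comm (⟨x, hx⟩ : B) ⟨y, hy⟩)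
  have hV := tor_char hc 2 hB
  have V2 : ∀ v ∈ tor B hc 2, v * v = 1 := fun v hv => by rw [← pow_two, hv.2]
  have hφ : ∀ v : X, (∀ x : X, ⁅x, v⁆ ∈ Z0 φ) → ∀ x : X, ⁅x, φ v⁆ ∈ Z0 φ := fun v hv x => by
    rw [← h3 x, ← map_commutatorElement, (hv _).2.2]; exact hv _
  by_cases h2 : ∀ v ∈ tor B hc 2, (∀ x : X, ⁅x, v⁆ ∈ Z0 φ) → φ v = v
  · exfalso
    refine hab (omega_triv hX hB hc ho (fun w hw => ?_) b hb)
    have : tor B hc 2 ≤ Z0 φ := by
      by_contra hn
      obtain ⟨e, he, e1, h4⟩ := exists_cen hX hn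
      refine e1 ⟨mem_center_iff.2 fun x => ?_, V2 e he, h2 e he h4⟩
      have : (⊤ : Subgroup X) ≤ centralizer {e} := by
        rw [← hgen, closure_le]
        rintro _ ⟨x, rfl⟩
        refine mem_centralizer_singleton_iff.2 (commutatorElement_eq_one_iff_mul_comm.1 ?_)
        have : ⁅φ x, e⁆ = ⁅x, e⁆ := by
          conv_lhs => rw [← h2 e he h4, ← map_commutatorElement, (h4 x).2.2]
        rw [Zl (h4 _), this, ← Zl (h4 _), inv_mul_cancel, commutatorElement_one_left]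
      exact mem_centralizer_singleton_iff.1 (this (mem_top x))
    exact (this hw).2.2
  push Not at h2
  obtain ⟨v, hv, h4, h5⟩ := h2
  have v1 := chr_app hV φ hv
  have v2 := chr_app hV φ v1
  refine ⟨v * φ v, ⟨V2 _ (mul_mem hv v1), fun e => h5 ?_, ?_⟩, fun x => ?_⟩
  · rw [map_mul, hc _ v1.1 _ v2.1] at e
    have := congrArg φ (mul_right_cancel e)
    rw [h3] at this
    exact this.symm
  · rw [map_mul, map_mul, h3, mul_assoc, ← mul_assoc (φ v), V2 _ v1, one_mul, hc _ hv.1 _ v2.1]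
  · rw [Zr (hφ v h4 x)]
    exact mul_mem (h4 x) (hφ v h4 x)

end Cfsg.Agent.Jb3
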