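import Cfsg.Agent.Jb3.A

/-! S4415, the 2-group part (helper3): `two_group`. -/

set_option autoImplicit false
set_option linter.unusedSectionVars false

namespace Cfsg.Agent.Jb3

open Subgroup Scn
open scoped commutatorElement

variable {X : Type*} [Group X] [Finite X]

theorem two_group (hX : IsPGroup 2 X) {φ : MulAut X} (h3 : ∀ x, φ (φ (φ x)) = x)
    (hgen : closure {g : X | ∃ x, g = x⁻¹ * φ x} = ⊤) {q0 : X} (h0 : FG φ q0)
    (H1 : ∀ q (h : FG φ q), ∀ y, ⁅y, q⁆ = 1 → ⁅y, φ q⁆ = 1 → y⁻¹ * φ y ∈ h.Q)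
    (H2 : ∀ q, FG φ q → ∀ Y : Subgroup X, Y.Normal → (∀ y, y ∈ Y ↔ ⁅y, q⁆ = 1 ∧ ⁅y, φ q⁆ = 1) →
      ∀ y ∈ Y, y * y = 1)
    (H3 : ∀ z ∈ Z0 φ, ∀ z' ∈ Z0 φ, z ≠ 1 → z' ≠ 1 → z = z') :
    ((∀ x y : X, x * y = y * x) ∧ (∀ x : X, x * x = 1) ∧ Nat.card X = 4) ∨
      (Cfsg.IsExtraspecial 2 X ∧ Nat.card X = 32 ∧ ∃ A : Subgroup X,
        (∀ a ∈ A, ∀ b ∈ A, a * b = b * a) ∧ (∀ a ∈ A, a * a = 1) ∧ Nat.card A = 8) := by
  classical
  obtain ⟨q, h, hq⟩ := exists_FG hX h3 hgen h0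
  have hq' : ∀ x : X, ⁅x, φ q⁆ ∈ Z0 φ := fun x => by
    rw [← h3 x, ← map_commutatorElement, (hq _).2.2]; exact hq _
  let β : X →* X × X := MonoidHom.mk' (fun x => (⁅x, q⁆, ⁅x, φ q⁆)) fun x y => by
    rw [Zl (hq y), Zl (hq' y)]; rfl
  have mY : ∀ y, y ∈ β.ker ↔ ⁅y, q⁆ = 1 ∧ ⁅y, φ q⁆ = 1 := fun y => Prod.ext_iff
  have Y2 := H2 q h β.ker inferInstance mY
  have Yc : ∀ a ∈ β.ker, ∀ b ∈ β.ker, a * b = b * a := fun a ha b hb => by
    rw [← inv_eq_of_mul_eq_one_right (Y2 _ (mul_mem ha hb)), mul_inv_rev,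
      inv_eq_of_mul_eq_one_right (Y2 _ ha), inv_eq_of_mul_eq_one_right (Y2 _ hb)]
  have Y1 : ∀ y ∈ β.ker, y⁻¹ * φ y ∈ h.Q := fun y hy => H1 q h y ((mY y).1 hy).1 ((mY y).1 hy).2
  by_cases hY : β.ker = ⊤
  · left
    refine ⟨fun x y => Yc _ (hY ▸ mem_top _) _ (hY ▸ mem_top _), fun x => Y2 _ (hY ▸ mem_top _), ?_⟩
    have : h.Q = ⊤ := eq_top_iff.2 (by
      rw [← hgen, closure_le]
      rintro _ ⟨x, rfl⟩
      exact Y1 x (hY ▸ mem_top _))
    rw [← h.Qcard, this, card_top]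
  right
  have b1 : ∀ x : X, ⁅φ x, q⁆ = ⁅x, q⁆ * ⁅x, φ q⁆ := fun x => by
    conv_lhs => rw [← h.a3, ← map_commutatorElement, Zr (hq' x), (mul_mem (hq x) (hq' x)).2.2]
  have b2 : ∀ x : X, ⁅φ x, φ q⁆ = ⁅x, q⁆ := fun x => by rw [← map_commutatorElement, (hq x).2.2]
  have Yφ : ∀ y, φ y ∈ β.ker ↔ y ∈ β.ker := fun y => by
    rw [mY, mY, b1, b2]
    exact ⟨fun e => ⟨e.2, by simpa [e.2] using e.1⟩, fun e => by simp [e.1, e.2]⟩
  obtain ⟨x0, -, hx0⟩ := SetLike.exists_of_lt (lt_top_iff_ne_top.2 hY)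
  obtain ⟨z, hz, z1, zc⟩ : ∃ z ∈ Z0 φ, z ≠ 1 ∧ z ∈ commutator X := by
    rw [mY, not_and_or] at hx0
    rcases hx0 with e | e
    exacts [⟨_, hq x0, e, commutator_mem_commutator (mem_top _) (mem_top _)⟩,
      ⟨_, hq' x0, e, commutator_mem_commutator (mem_top _) (mem_top _)⟩]
  have mZ : ∀ u, u ∈ Z0 φ ↔ u = 1 ∨ u = z := fun u => ⟨fun hu => by
    by_cases e : u = 1
    exacts [Or.inl e, Or.inr (H3 u hu z hz e z1)], by
    rintro (rfl | rfl)
    exacts [one_mem _, hz]⟩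
  have cZ : Nat.card (Z0 φ) = 2 := by
    have : Z0 φ = zpowers z := le_antisymm (fun u hu => by
      rcases (mZ u).1 hu with rfl | rfl
      exacts [one_mem _, mem_zpowers _]) (zpowers_le.2 hz)
    rw [this, Nat.card_zpowers, orderOf_eq_prime (p := 2) (by rw [pow_two, hz.2.1]) z1]
  have r2 : ∀ a ∈ β.range, a * a = 1 := by
    rintro _ ⟨x, rfl⟩
    exact Prod.ext (hq x).2.1 (hq' x).2.1
  have r4 : Nat.card β.range ≤ 4 := by
    have : β.range ≤ (Z0 φ).prod (Z0 φ) := by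
      rintro _ ⟨x, rfl⟩
      exact ⟨hq x, hq' x⟩
    have := card_le_of_le this
    rwa [Nat.card_congr (prodEquiv _ _).toEquiv, Nat.card_prod, cZ] at this
  have rne : ∀ x, x ∉ β.ker → β x ≠ β (φ x) := fun x hx e => hx ((mY x).2 (by
    obtain ⟨e1, e2⟩ := Prod.ext_iff.1 e
    change ⁅x, q⁆ = ⁅φ x, q⁆ at e1
    change ⁅x, φ q⁆ = ⁅φ x, φ q⁆ at e2
    rw [b1] at e1
    rw [b2] at e2
    have := left_eq_mul.1 e1
    exact ⟨e2.symm.trans this, this⟩))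
  have gen : ∀ x, x ∉ β.ker → ∀ K : Subgroup X, β.ker ≤ K → x ∈ K → φ x ∈ K → ∀ g, g ∈ K :=
    fun x hx K hK h1 h2 g => by
      have k : ∀ s ∈ K, β g = β s → g ∈ K := fun s hs e => by
        have : g * s⁻¹ ∈ β.ker := by rw [MonoidHom.mem_ker, map_mul, map_inv, e, mul_inv_cancel]
        simpa using mul_mem (hK this) hs
      rcases four_enum r4 r2 ⟨x, rfl⟩ ⟨φ x, rfl⟩ hx (mt (Yφ x).1 hx) (rne x hx) _ ⟨g, rfl⟩ with e | e | e | e
      exacts [hK e, k _ h1 e, k _ h2 e, k _ (mul_mem h1 h2) (e.trans (map_mul _ _ _).symm)]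
  have c4 : Nat.card β.range = 4 := le_antisymm r4
    (four_le r2 ⟨x0, rfl⟩ ⟨φ x0, rfl⟩ hx0 (mt (Yφ x0).1 hx0) (rne x0 hx0))
  have QY : h.Q ≤ β.ker := h.Qle ((mY _).2 ⟨commutatorElement_self _,
    commutatorElement_eq_one_iff_mul_comm.2 h.comm.symm⟩) ((mY _).2
    ⟨commutatorElement_eq_one_iff_mul_comm.2 h.comm, commutatorElement_self _⟩)
  have ZY : Z0 φ ≤ β.ker := fun u hu => (mY _).2 ⟨commutatorElement_eq_one_iff_mul_comm.2 (Z0c hu _).symm,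
    commutatorElement_eq_one_iff_mul_comm.2 (Z0c hu _).symm⟩
  have Zn : (Z0 φ).Normal := ⟨fun u hu g => by rw [Z0c hu, mul_inv_cancel_right]; exact hu⟩
  have QZ : ∀ y ∈ h.Q, ∀ g : X, ⁅g, y⁆ ∈ Z0 φ := by
    rintro y (rfl | rfl | rfl | rfl) g
    exacts [by simp [one_mem], hq g, hq' g, by rw [Zr (hq' g)]; exact mul_mem (hq g) (hq' g)]
  let M := h.Q ⊔ Z0 φ
  have mM : ∀ m, m ∈ M ↔ ∃ y ∈ h.Q, ∃ c ∈ Z0 φ, y * c = m := fun m => by
    rw [← SetLike.mem_coe, mul_normal]; rfl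
  have MY : M ≤ β.ker := sup_le QY ZY
  have MZ : ∀ m ∈ M, ∀ g : X, ⁅g, m⁆ ∈ Z0 φ := fun m hm g => by
    obtain ⟨y, hy, c, hc, rfl⟩ := (mM m).1 hm
    have : ⁅g, c⁆ = 1 := commutatorElement_eq_one_iff_mul_comm.2 (Z0c hc g)
    rw [Zr (φ := φ) (by rw [this]; exact one_mem _), this, mul_one]
    exact QZ y hy g
  have Mn : M.Normal := ⟨fun m hm g => by
    rw [show g * m * g⁻¹ = ⁅g, m⁆ * m by rw [commutatorElement_def]; group]
    exact mul_mem (mem_sup_right (MZ m hm g)) hm⟩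
  have Mφ : ∀ m ∈ M, φ m ∈ M := fun m hm => by
    obtain ⟨y, hy, c, hc, rfl⟩ := (mM m).1 hm
    rw [map_mul, hc.2.2]
    exact mul_mem (mem_sup_left (h.Qφ y hy)) (mem_sup_right hc)
  -- decomposition in `Y`
  have dec : ∀ y ∈ β.ker, φ (y * φ y * φ (φ y)) = y * φ y * φ (φ y) ∧
      ∃ s ∈ h.Q, y = y * φ y * φ (φ y) * s := fun y hy => by
    have y1 := (Yφ y).2 hy
    have y2 := (Yφ _).2 y1
    refine ⟨by rw [map_mul, map_mul, h3, Yc _ (mul_mem y1 y2) _ hy, mul_assoc], _, inv_mem (Y1 _ y1), ?_⟩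
    rw [mul_inv_rev, inv_inv, mul_assoc (y * φ y), mul_inv_cancel_left, mul_assoc, Y2 _ y1, mul_one]
  have sqM : ∀ x : X, x * x ∈ M := fun x => by
    by_cases hx : x ∈ β.ker
    · rw [Y2 x hx]; exact one_mem _
    have hy : x * x ∈ β.ker := by rw [MonoidHom.mem_ker, map_mul]; exact r2 _ ⟨x, rfl⟩
    obtain ⟨e1, s, hs, e2⟩ := dec _ hy
    have hk : x * x * φ (x * x) * φ (φ (x * x)) ∈ β.ker :=
      mul_mem (mul_mem hy ((Yφ _).2 hy)) ((Yφ _).2 ((Yφ _).2 hy))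
    generalize x * x * φ (x * x) * φ (φ (x * x)) = k at *
    have t1 : x ∈ Th φ k := by
      have : k = x * x * s⁻¹ := by rw [e2]; group
      change ⁅x, k⁆ ∈ Z0 φ
      rw [this, Zr (QZ _ (inv_mem hs) x),
        commutatorElement_eq_one_iff_mul_comm.2 (mul_assoc x x x).symm, one_mul]
      exact QZ _ (inv_mem hs) x
    have tφ : ∀ g : X, ⁅g, k⁆ ∈ Z0 φ → ⁅φ g, k⁆ = ⁅g, k⁆ := fun g hg => by
      conv_lhs => rw [← e1, ← map_commutatorElement, hg.2.2]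
    have t2 := gen x hx (Th φ k) (fun y hy => by
      change ⁅y, k⁆ ∈ Z0 φ
      rw [commutatorElement_eq_one_iff_mul_comm.2 (Yc _ hy _ hk)]; exact one_mem _) t1 (by
      change ⁅φ x, k⁆ ∈ Z0 φ
      rw [tφ x t1]; exact t1)
    have : (⊤ : Subgroup X) ≤ centralizer {k} := by
      rw [← hgen, closure_le]
      rintro _ ⟨g, rfl⟩
      refine mem_centralizer_singleton_iff.2 (commutatorElement_eq_one_iff_mul_comm.1 ?_)
      rw [Zl (t2 _), tφ g (t2 g), ← Zl (t2 _), inv_mul_cancel, commutatorElement_one_left]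
    rw [e2]
    exact mul_mem (mem_sup_right ⟨mem_center_iff.2 fun g =>
      mem_centralizer_singleton_iff.1 (this (mem_top g)), Y2 k hk, e1⟩) (mem_sup_left hs)
  have trM : ∀ x : X, x * φ x * φ (φ x) ∈ M := by
    have p2 : ∀ a : X ⧸ M, a * a = 1 := fun a => by
      obtain ⟨a, rfl⟩ := QuotientGroup.mk_surjective a
      exact (QuotientGroup.eq_one_iff _).2 (sqM a)
    have pc : ∀ a b : X ⧸ M, Commute a b := fun a b => by
      change _ = _
      rw [← inv_eq_of_mul_eq_one_right (p2 (a * b)), mul_inv_rev,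
        inv_eq_of_mul_eq_one_right (p2 a), inv_eq_of_mul_eq_one_right (p2 b)]
    let π := QuotientGroup.mk' M
    let g : X →* X ⧸ M := MonoidHom.mk' (fun x => π x * π (φ x) * π (φ (φ x))) fun x y => by
      simp only [map_mul]
      rw [(pc _ _).mul_mul_mul_comm (π x), (pc _ _).mul_mul_mul_comm (π x * π (φ x))]
    have : (⊤ : Subgroup X) ≤ g.ker := by
      rw [← hgen, closure_le]
      rintro _ ⟨x, rfl⟩
      change g _ = 1
      rw [map_mul, map_inv, inv_mul_eq_one]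
      change π x * π (φ x) * π (φ (φ x)) = π (φ x) * π (φ (φ x)) * π (φ (φ (φ x)))
      rw [h3, (pc _ (π x)).eq, mul_assoc]
    intro x
    exact (QuotientGroup.eq_one_iff _).1 (this (mem_top x))
  have YM : β.ker = M := le_antisymm (fun y hy => by
    obtain ⟨-, s, hs, e⟩ := dec y hy
    rw [e]; exact mul_mem (trM y) (mem_sup_left hs)) MY
  have QZb : ∀ y ∈ h.Q, y ∈ Z0 φ → y = 1 := fun y hy hy' => h.Qfix y hy hy'.2.2
  have c8 : Nat.card β.ker = 8 := by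
    have := Solv.card_sup_mul_card_inf (H := h.Q) (N := Z0 φ) (le_normalizer_of_normal)
    rw [h.Qcard, cZ, (eq_bot_iff_forall (Z0 φ ⊓ h.Q)).2 fun y hy => QZb y hy.2 hy.1, card_bot,
      sup_comm, mul_one] at this
    rw [YM]; exact this
  have c32 : Nat.card X = 32 := by
    rw [← β.ker.card_mul_index, index_ker, c8, c4]
  have cen : center X = Z0 φ := le_antisymm (fun u hu => by
    have : u ∈ M := YM ▸ (mY _).2 ⟨commutatorElement_eq_one_iff_mul_comm.2 (mem_center_iff.1 hu _).symm,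
      commutatorElement_eq_one_iff_mul_comm.2 (mem_center_iff.1 hu _).symm⟩
    obtain ⟨y, hy, c, hc, rfl⟩ := (mM u).1 this
    have y1 : y ∈ center X := by simpa using mul_mem hu (inv_mem hc.1)
    have y2 := chr_app (inferInstance : (center X).Characteristic) φ y1
    have y3 := chr_app (inferInstance : (center X).Characteristic) φ y2
    have nq : q ∉ center X := fun e => hx0 ((mY _).2 ⟨commutatorElement_eq_one_iff_mul_comm.2
      (mem_center_iff.1 e _), commutatorElement_eq_one_iff_mul_comm.2 (mem_center_iff.1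
        (chr_app (inferInstance : (center X).Characteristic) φ e) _)⟩)
    rcases hy with e | e | e | e <;> rw [e] at y1 y2 y3
    · simpa [e] using hc
    · exact absurd y1 nq
    · exact absurd (h3 q ▸ y3) nq
    · exact absurd (h.a3 ▸ y2) nq) fun u hu => hu.1
  have hcm : ∀ g x : X, ⁅g, x⁆ ∈ Z0 φ := fun g x => by
    by_cases hx : x ∈ β.ker
    · exact MZ x (YM ▸ hx) g
    have cM : ⁅φ x, x⁆ ∈ M := by
      rw [show ⁅φ x, x⁆ = φ x * x * (φ x * x) * (x⁻¹ * (φ x * φ x)⁻¹ * x⁻¹⁻¹) * (x * x)⁻¹ by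
        rw [commutatorElement_def]; group]
      exact mul_mem (mul_mem (sqM _) (Mn.conj_mem _ (inv_mem (sqM _)) _)) (inv_mem (sqM _))
    have c2 : ⁅x * φ x * φ (φ x), φ x⁆ ∈ Z0 φ := by
      rw [← commutatorElement_inv]; exact inv_mem (MZ _ (trM x) _)
    have e : φ ⁅φ x, x⁆ = ⁅(x * φ x)⁻¹, ⁅φ x, x⁆⁆ * ⁅φ x, x⁆ * ⁅x * φ x * φ (φ x), φ x⁆ := by
      rw [map_commutatorElement, show φ (φ x) = (x * φ x)⁻¹ * (x * φ x * φ (φ x)) by group, Zl c2,
        mul_inv_cancel_left]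
      congr 1
      simp only [commutatorElement_def]; group
    have c1 := MZ _ cM (x * φ x)⁻¹
    have cZ' : ⁅φ x, x⁆ ∈ Z0 φ := by
      obtain ⟨y, hy, u, hu, e'⟩ := (mM _).1 cM
      generalize ⁅(x * φ x)⁻¹, ⁅φ x, x⁆⁆ = d1 at *
      generalize ⁅x * φ x * φ (φ x), φ x⁆ = d2 at *
      rw [← e', map_mul, hu.2.2] at e
      have : y⁻¹ * φ y = 1 := QZb _ (mul_mem (inv_mem hy) (h.Qφ y hy)) (by
        rw [eq_mul_inv_of_mul_eq e, show y⁻¹ * (d1 * (y * u) * d2 * u⁻¹) = y⁻¹ * d1 * y * (u * d2 * u⁻¹) by group]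
        exact mul_mem (Zn.conj_mem' _ c1 _) (Zn.conj_mem _ c2 _))
      rw [← e', h.Qfix y hy (inv_mul_eq_one.1 this).symm, one_mul]
      exact hu
    exact gen x hx (Th φ x) (fun y hy => by
      change ⁅y, x⁆ ∈ Z0 φ
      rw [← commutatorElement_inv]; exact inv_mem (MZ _ (YM ▸ hy) _)) (by
      change ⁅x, x⁆ ∈ Z0 φ
      rw [commutatorElement_self]; exact one_mem _) cZ' g
  have l1 : commutator X ≤ center X := commutator_le.2 fun x _ y _ => (hcm x y).1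
  have l2 : center X ≤ commutator X := fun u hu => by
    rcases (mZ u).1 (cen ▸ hu) with rfl | rfl
    exacts [one_mem _, zc]
  have := hX.isNilpotent
  refine ⟨⟨⟨hX, le_antisymm (Solv.frattini_le_of_commutator_le (p := 2) l1 fun x => ?_)
    (l2.trans Solv.commutator_le_frattini), le_antisymm l1 l2⟩, by rw [cen, cZ]⟩, c32, β.ker, Yc, Y2, c8⟩
  rw [pow_two]
  refine mem_center_iff.2 fun g => commutatorElement_eq_one_iff_mul_comm.1 ?_
  rw [Zr (hcm g x), (hcm g x).2.1]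

end Cfsg.Agent.Jb3
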