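import Cfsg.Agent.Jb3.B
import Mathlib.LinearAlgebra.Matrix.GeneralLinearGroup.Card
import Mathlib.RepresentationTheory.Basic

/-! S4415, linear algebra over `F₃` (helper3): `Mv`, `card_dvd_GL`, the weight decomposition `WD`. -/

set_option autoImplicit false
set_option linter.unusedSectionVars false

namespace Cfsg.Agent.Jb3

open Subgroup Scn
open scoped commutatorElement

variable {S : Type*} [Group S] [Finite S] {E : Type*} [AddCommGroup E] [Module (ZMod 3) E] [Finite E]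
  (ρ : Representation (ZMod 3) S E)

theorem rmul (g h : S) (v : E) : ρ (g * h) v = ρ g (ρ h v) := by rw [map_mul]; rfl
theorem rone (v : E) : ρ 1 v = v := by rw [map_one]; rfl
theorem rinv (g : S) (v : E) : ρ g⁻¹ (ρ g v) = v := by rw [← rmul, inv_mul_cancel, rone]
theorem rinv' (g : S) (v : E) : ρ g (ρ g⁻¹ v) = v := by rw [← rmul, mul_inv_cancel, rone]

theorem three (v : E) : v + v + v = 0 := by
  have : (1 + 1 + 1 : ZMod 3) • v = 0 := by rw [show (1 + 1 + 1 : ZMod 3) = 0 from rfl, zero_smul]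
  simpa only [add_smul, one_smul] using this

/-- the elements acting trivially on `E / M` -/
def Mv (M : Submodule (ZMod 3) E) : Subgroup S where
  carrier := {g | ∀ v, ρ g v - v ∈ M}
  one_mem' := fun v => by rw [rone, sub_self]; exact zero_mem _
  mul_mem' := fun {a b} ha hb v => by
    rw [rmul, ← sub_add_sub_cancel _ (ρ b v)]; exact add_mem (ha _) (hb _)
  inv_mem' := fun {a} ha v => by
    have := neg_mem (ha (ρ a⁻¹ v))
    rwa [rinv', neg_sub] at this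

/-- the elements acting trivially on `M` -/
def Fx (M : Submodule (ZMod 3) E) : Subgroup S where
  carrier := {g | ∀ v ∈ M, ρ g v = v}
  one_mem' := fun v _ => rone ρ v
  mul_mem' := fun {a b} ha hb v hv => by rw [rmul, hb v hv, ha v hv]
  inv_mem' := fun {a} ha v hv => by conv_lhs => rw [← ha v hv, rinv]

variable {ρ}

theorem Mv_inv {M : Submodule (ZMod 3) E} {g : S} (h : g ∈ Mv ρ M) {v : E} (hv : v ∈ M) : ρ g v ∈ M := by
  simpa using add_mem (h v) hv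

theorem Mv_conj {M : Submodule (ZMod 3) E} {g r : S} (h : g ∈ Mv ρ M) {M' : Submodule (ZMod 3) E}
    (hr : ∀ v ∈ M, ρ r v ∈ M') : r * g * r⁻¹ ∈ Mv ρ M' := fun v => by
  have := hr _ (h (ρ r⁻¹ v))
  rwa [map_sub, rinv', ← rmul, ← rmul] at this

theorem card_dvd_GL (hf : Function.Injective ρ) (M : Submodule (ZMod 3) E) {K : Subgroup S}
    (hK : K ≤ Mv ρ M) (h3 : (Nat.card K).Coprime 3) :
    Nat.card K ∣ ∏ i : Fin (Module.finrank (ZMod 3) M), (3 ^ Module.finrank (ZMod 3) M - 3 ^ (i : ℕ)) := by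
  classical
  let f : K →* Module.End (ZMod 3) M :=
    { toFun := fun g => (ρ g).restrict fun v hv => Mv_inv (hK g.2) hv
      map_one' := by ext v; exact rone ρ _
      map_mul' := fun a b => by ext v; exact rmul ρ _ _ _ }
  let B := Module.finBasis (ZMod 3) M
  let F := ((LinearMap.toMatrixAlgEquiv B).toMulEquiv.toMonoidHom.comp f).toHomUnits
  have hinj : Function.Injective F := by
    refine (injective_iff_map_eq_one _).2 fun g hg => ?_
    have h1 : f g = 1 := (map_eq_one_iff (LinearMap.toMatrixAlgEquiv B) (AlgEquiv.injective _)).1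
      (congrArg Units.val hg)
    have h2 : ∀ v ∈ M, ρ g v = v := fun v hv => congrArg Subtype.val (LinearMap.congr_fun h1 ⟨v, hv⟩)
    have h4 : (g : S) ^ 3 = 1 := hf (by
      ext v
      have e := h2 _ (hK g.2 v)
      have e' : ρ g v = (ρ g v - v) + v := by abel
      generalize ρ g v - v = m at e e'
      rw [pow_succ, pow_two, rmul, rmul, rone, e', map_add, e, e', map_add, map_add, e, e']
      linear_combination (norm := abel) three m)
    have h5 : orderOf g ∣ 3 := orderOf_dvd_of_pow_eq_one (Subtype.ext h4)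
    exact orderOf_eq_one_iff.1 (Nat.eq_one_of_dvd_coprimes h3 (orderOf_dvd_natCard g) h5)
  have := card_dvd_of_injective F hinj
  rwa [Matrix.card_GL_field, ZMod.card] at this

theorem dep3 {D : Submodule (ZMod 3) E} (hD : Module.finrank (ZMod 3) D ≤ 2) {a b c : E} (ha : a ∈ D)
    (hb : b ∈ D) (hc : c ∈ D) : ∃ i j k : ZMod 3, i • a + j • b + k • c = 0 ∧ (i ≠ 0 ∨ j ≠ 0 ∨ k ≠ 0) := by
  have : ¬ LinearIndependent (ZMod 3) ![(⟨a, ha⟩ : D), ⟨b, hb⟩, ⟨c, hc⟩] := fun h => by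
    have := h.fintype_card_le_finrank
    simp at this; omega
  obtain ⟨g, h1, i, h2⟩ := Fintype.not_linearIndependent_iff.1 this
  refine ⟨g 0, g 1, g 2, by simpa [Fin.sum_univ_three] using congrArg Subtype.val h1, ?_⟩
  fin_cases i
  exacts [Or.inl h2, Or.inr (Or.inl h2), Or.inr (Or.inr h2)]

theorem comp0 {A B : E →ₗ[ZMod 3] E} {a0 a1 a2 a3 : E} (h0 : A a0 = a0 ∧ B a0 = a0)
    (h1 : A a1 = a1 ∧ B a1 = -a1) (h2 : A a2 = -a2 ∧ B a2 = a2) (h3 : A a3 = -a3 ∧ B a3 = -a3)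
    (e : a0 + a1 + a2 + a3 = 0) : a0 = 0 ∧ a1 = 0 ∧ a2 = 0 ∧ a3 = 0 := by
  have e1 := congrArg A e
  have e2 := congrArg B e
  have e3 := congrArg B e1
  simp only [map_add, map_zero, map_neg, h0.1, h0.2, h1.1, h1.2, h2.1, h2.2, h3.1, h3.2, neg_neg] at e1 e2 e3
  refine ⟨?_, ?_, ?_, ?_⟩
  · linear_combination (norm := abel) e + e1 + e2 + e3 - three a0
  · linear_combination (norm := abel) e + e1 - e2 - e3 - three a1
  · linear_combination (norm := abel) e - e1 + e2 - e3 - three a2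
  · linear_combination (norm := abel) e - e1 - e2 + e3 - three a3

theorem decomp {A B : E →ₗ[ZMod 3] E} (hA : ∀ v, A (A v) = v) (hB : ∀ v, B (B v) = v)
    (hAB : ∀ v, B (A v) = A (B v)) (N : Submodule (ZMod 3) E) (hN : ∀ v ∈ N, A v ∈ N ∧ B v ∈ N) {v : E}
    (hv : v ∈ N) : ∃ a0 ∈ N, ∃ a1 ∈ N, ∃ a2 ∈ N, ∃ a3 ∈ N, (A a0 = a0 ∧ B a0 = a0) ∧
      (A a1 = a1 ∧ B a1 = -a1) ∧ (A a2 = -a2 ∧ B a2 = a2) ∧ (A a3 = -a3 ∧ B a3 = -a3) ∧
      v = a0 + a1 + a2 + a3 := by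
  have h1 := (hN v hv).1
  have h2 := (hN v hv).2
  have h3 := (hN _ h2).1
  refine ⟨v + A v + B v + A (B v), add_mem (add_mem (add_mem hv h1) h2) h3,
    v + A v - B v - A (B v), sub_mem (sub_mem (add_mem hv h1) h2) h3,
    v - A v + B v - A (B v), sub_mem (add_mem (sub_mem hv h1) h2) h3,
    v - A v - B v + A (B v), add_mem (sub_mem (sub_mem hv h1) h2) h3, ⟨?_, ?_⟩, ⟨?_, ?_⟩, ⟨?_, ?_⟩, ⟨?_, ?_⟩, ?_⟩
  all_goals try (simp only [map_add, map_sub, hA, hB, hAB]; abel)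
  linear_combination (norm := abel) - three v

/-- the weight vector -/
structure WD (ρ : Representation (ZMod 3) S E) (b q : S) (e : E) : Prop where
  fg : FG (MulAut.conj b) q
  b3 : ∀ v, ρ b (ρ b (ρ b v)) = v
  ne : e ≠ 0
  w1 : ρ q e = e ∧ ρ (MulAut.conj b q) e = -e
  fix : ∀ c, ρ q c = c ∧ ρ (MulAut.conj b q) c = c → ρ b c = c
  uni : ∀ w, ρ q w = w ∧ ρ (MulAut.conj b q) w = -w → ∃ s : ZMod 3, w = s • e

section
variable {b q : S} (h : FG (MulAut.conj b) q)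
include h

theorem rcj (x : S) (v : E) : ρ (MulAut.conj b x) (ρ b v) = ρ b (ρ x v) := by
  rw [MulAut.conj_apply, rmul, rmul, rinv]

theorem s12 {w : E} (hw : ρ q w = w ∧ ρ (MulAut.conj b q) w = -w) :
    ρ q (ρ b w) = -ρ b w ∧ ρ (MulAut.conj b q) (ρ b w) = ρ b w :=
  ⟨by conv_lhs => rw [← h.a3, rcj h, rmul, hw.2, map_neg, hw.1, map_neg], by rw [rcj h, hw.1]⟩

theorem s23 {w : E} (hw : ρ q w = -w ∧ ρ (MulAut.conj b q) w = w) :
    ρ q (ρ b w) = -ρ b w ∧ ρ (MulAut.conj b q) (ρ b w) = -ρ b w :=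
  ⟨by conv_lhs => rw [← h.a3, rcj h, rmul, hw.2, hw.1, map_neg], by rw [rcj h, hw.1, map_neg]⟩

theorem s31 {w : E} (hw : ρ q w = -w ∧ ρ (MulAut.conj b q) w = -w) :
    ρ q (ρ b w) = ρ b w ∧ ρ (MulAut.conj b q) (ρ b w) = -ρ b w :=
  ⟨by conv_lhs => rw [← h.a3, rcj h, rmul, hw.2, map_neg, hw.1, neg_neg], by rw [rcj h, hw.1, map_neg]⟩

theorem s00 {w : E} (hw : ρ q w = w ∧ ρ (MulAut.conj b q) w = w) :
    ρ q (ρ b w) = ρ b w ∧ ρ (MulAut.conj b q) (ρ b w) = ρ b w :=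
  ⟨by conv_lhs => rw [← h.a3, rcj h, rmul, hw.2, hw.1], by rw [rcj h, hw.1]⟩

theorem decQ (N : Submodule (ZMod 3) E) (hN : ∀ v ∈ N, ρ q v ∈ N ∧ ρ (MulAut.conj b q) v ∈ N) {v : E}
    (hv : v ∈ N) : ∃ a0 ∈ N, ∃ a1 ∈ N, ∃ a2 ∈ N, ∃ a3 ∈ N, (ρ q a0 = a0 ∧ ρ (MulAut.conj b q) a0 = a0) ∧
      (ρ q a1 = a1 ∧ ρ (MulAut.conj b q) a1 = -a1) ∧ (ρ q a2 = -a2 ∧ ρ (MulAut.conj b q) a2 = a2) ∧
      (ρ q a3 = -a3 ∧ ρ (MulAut.conj b q) a3 = -a3) ∧ v = a0 + a1 + a2 + a3 :=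
  decomp (fun v => by rw [← rmul, h.sq, rone]) (fun v => by rw [← rmul, h.sq', rone])
    (fun v => by rw [← rmul, h.comm, rmul]) N hN hv

theorem exists_WD (hf : Function.Injective ρ) (b3 : ∀ v, ρ b (ρ b (ρ b v)) = v)
    {D : Submodule (ZMod 3) E} (hD : Module.finrank (ZMod 3) D ≤ 2) (hb : b ∈ Mv ρ D) :
    ∃ e, WD ρ b q e := by
  have binj : ∀ v, ρ b v = 0 → v = 0 := fun v e => by rw [← b3 v, e, map_zero, map_zero]
  obtain ⟨e, he, e0⟩ : ∃ e, (ρ q e = e ∧ ρ (MulAut.conj b q) e = -e) ∧ e ≠ 0 := by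
    by_contra hn
    push Not at hn
    refine h.ne1 (hf ?_)
    ext v
    obtain ⟨a0, -, a1, -, a2, -, a3, -, h0, h1, h2, h3, rfl⟩ :=
      decQ (ρ := ρ) h ⊤ (fun _ _ => ⟨trivial, trivial⟩) (Submodule.mem_top (x := v))
    rw [hn a1 h1, binj _ (hn _ (s31 h h3)), binj _ (binj _ (hn _ (s31 h (s23 h h2)))), rone]
    simpa using h0.1
  have sm : ∀ {A B : E →ₗ[ZMod 3] E} {w w1 w2 : E} (i : ZMod 3), A w = w1 ∧ B w = w2 →
      A (i • w) = i • w1 ∧ B (i • w) = i • w2 := fun i hw => by simp [hw.1, hw.2]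
  have e2 := s12 h he
  have e3 := s23 h e2
  have n2 : ρ b e ≠ 0 := fun e' => e0 (binj _ e')
  have n3 : ρ b (ρ b e) ≠ 0 := fun e' => n2 (binj _ e')
  refine ⟨e, h, b3, e0, he, fun c hc => ?_, fun w hw => ?_⟩
  · obtain ⟨i, j, k, h1, h2⟩ := dep3 hD (hb e) (hb (ρ b e)) (hb c)
    have hc' := s00 h hc
    obtain ⟨z0, z1, -, z3⟩ := comp0 (A := ρ q) (B := ρ (MulAut.conj b q)) (a0 := k • (ρ b c - c))
      (a1 := (-i) • e) (a2 := (i - j) • ρ b e) (a3 := j • ρ b (ρ b e))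
      (by simp only [map_smul, map_sub, hc.1, hc.2, hc'.1, hc'.2, and_self])
      (by simp only [map_smul, he.1, he.2, smul_neg, and_self])
      (by simp only [map_smul, e2.1, e2.2, smul_neg, and_self])
      (by simp only [map_smul, e3.1, e3.2, smul_neg, and_self]) (by linear_combination (norm := module) h1)
    have i0 : i = 0 := neg_eq_zero.1 ((smul_eq_zero.1 z1).resolve_right e0)
    have j0 : j = 0 := (smul_eq_zero.1 z3).resolve_right n3
    exact sub_eq_zero.1 ((smul_eq_zero.1 z0).resolve_left (by simpa [i0, j0] using h2))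
  · obtain ⟨i, j, k, h1, h2⟩ := dep3 hD (hb e) (hb (ρ b e)) (hb w)
    have hw' := s12 h hw
    obtain ⟨-, z1, -, z3⟩ := comp0 (A := ρ q) (B := ρ (MulAut.conj b q)) (a0 := 0)
      (a1 := (-i) • e - k • w) (a2 := (i - j) • ρ b e + k • ρ b w) (a3 := j • ρ b (ρ b e))
      (by simp)
      (by simp only [map_smul, map_sub, he.1, he.2, hw.1, hw.2, smul_neg, true_and]; abel)
      (by simp only [map_smul, map_add, e2.1, e2.2, hw'.1, hw'.2, smul_neg, and_true]; abel)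
      (by simp only [map_smul, e3.1, e3.2, smul_neg, and_self]) (by linear_combination (norm := module) h1)
    have j0 : j = 0 := (smul_eq_zero.1 z3).resolve_right n3
    have k0 : k ≠ 0 := fun k0 => by
      rw [k0, zero_smul, sub_zero] at z1
      have i0 : i = 0 := neg_eq_zero.1 ((smul_eq_zero.1 z1).resolve_right e0)
      simp [i0, j0, k0] at h2
    exact ⟨k⁻¹ * (-i), by rw [mul_smul, sub_eq_zero.1 z1, inv_smul_smul₀ k0]⟩

end

end Cfsg.Agent.Jb3
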