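import Cfsg.Agent.Jb3.C

/-! S4415, consequences of the weight decomposition (helper3): `WD.H1`, `WD.irr`, `F0`, `F1`. -/

set_option autoImplicit false
set_option linter.unusedSectionVars false

namespace Cfsg.Agent.Jb3

open Subgroup Scn
open scoped commutatorElement

variable {S : Type*} [Group S] [Finite S] {E : Type*} [AddCommGroup E] [Module (ZMod 3) E] [Finite E]
  {ρ : Representation (ZMod 3) S E}

/-- `[E, R]` -/
def F0 (ρ : Representation (ZMod 3) S E) (R : Subgroup S) : Submodule (ZMod 3) E :=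
  Submodule.span (ZMod 3) {x | ∃ r ∈ R, ∃ v, x = ρ r v - v}

/-- `C_E(R)` -/
def F1 (ρ : Representation (ZMod 3) S E) (R : Subgroup S) : Submodule (ZMod 3) E where
  carrier := {v | ∀ r ∈ R, ρ r v = v}
  zero_mem' := fun r _ => map_zero _
  add_mem' := fun ha hb r hr => by rw [map_add, ha r hr, hb r hr]
  smul_mem' := fun c v hv r hr => by rw [map_smul, hv r hr]

theorem F0_le {R : Subgroup S} {N : Submodule (ZMod 3) E} (h : R ≤ Mv ρ N) : F0 ρ R ≤ N :=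
  Submodule.span_le.2 (by rintro _ ⟨r, hr, v, rfl⟩; exact h hr v)

theorem F0_inv {R : Subgroup S} {g : S} (hg : ∀ r ∈ R, g * r * g⁻¹ ∈ R) : ∀ v ∈ F0 ρ R, ρ g v ∈ F0 ρ R :=
  fun v hv => (Submodule.span_le (p := (F0 ρ R).comap (ρ g))).2 (by
    rintro _ ⟨r, hr, v, rfl⟩
    exact Submodule.subset_span ⟨_, hg r hr, ρ g v, by rw [map_sub, rmul, rmul, rinv]⟩) hv

theorem F01 {R : Subgroup S} (h3 : (Nat.card R).Coprime 3) :
    F0 ρ R ⊓ F1 ρ R = ⊥ ∧ F0 ρ R ⊔ F1 ρ R = ⊤ := by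
  classical
  have : Fintype R := Fintype.ofFinite _
  let P : E →ₗ[ZMod 3] E := ∑ r : R, ρ r
  have hP : ∀ v, P v = ∑ r : R, ρ r v := fun v => by simp [P, LinearMap.sum_apply]
  have n0 : (Fintype.card R : ZMod 3) ≠ 0 := fun e => by
    rw [ZMod.natCast_eq_zero_iff, ← Nat.card_eq_fintype_card] at e
    exact absurd (Nat.eq_one_of_dvd_coprimes h3 e dvd_rfl) (by norm_num)
  constructor
  · refine (Submodule.eq_bot_iff _).2 fun v hv => ?_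
    have h1 : F0 ρ R ≤ LinearMap.ker P := Submodule.span_le.2 (by
      rintro _ ⟨r, hr, v, rfl⟩
      change P _ = 0
      rw [map_sub, hP, hP, sub_eq_zero]
      exact Fintype.sum_equiv (Equiv.mulRight (⟨r, hr⟩ : R)) _ _ fun a => (rmul ρ _ _ _).symm)
    have h2 : P v = (Fintype.card R : ZMod 3) • v := by
      rw [hP, Finset.sum_congr rfl fun (r : R) _ => hv.2 r r.2, Finset.sum_const, Finset.card_univ,
        Nat.cast_smul_eq_nsmul]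
    exact (smul_eq_zero.1 (h2.symm.trans (h1 hv.1))).resolve_left n0
  · refine eq_top_iff.2 fun v _ => ?_
    have h1 : P v ∈ F1 ρ R := fun r hr => by
      rw [hP, map_sum]
      exact Fintype.sum_equiv (Equiv.mulLeft (⟨r, hr⟩ : R)) _ _ fun a => (rmul ρ _ _ _).symm
    have h2 : P v - (Fintype.card R : ZMod 3) • v ∈ F0 ρ R := by
      rw [hP, Nat.cast_smul_eq_nsmul, ← Finset.card_univ, ← Finset.sum_const, ← Finset.sum_sub_distrib]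
      exact Submodule.sum_mem _ fun r _ => Submodule.subset_span ⟨r, r.2, v, rfl⟩
    have h4 := sub_mem (Submodule.mem_sup_right (S := F0 ρ R) h1) (Submodule.mem_sup_left (T := F1 ρ R) h2)
    rw [sub_sub_cancel] at h4
    exact (Submodule.smul_mem_iff _ n0).1 h4

theorem R_le {R K : Subgroup S} {b : S} (hR : R ≤ ⁅R, zpowers b⁆) (hb : b ∈ K)
    (hK : ∀ r ∈ R, ∀ k ∈ K, r * k * r⁻¹ ∈ K) : R ≤ K :=
  hR.trans (commutator_le.2 fun r hr k hk =>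
    mul_mem (hK r hr k (zpowers_le.2 hb hk)) (inv_mem (zpowers_le.2 hb hk)))

namespace WD
variable {b q : S} {e : E} (h : WD ρ b q e)
include h

theorem uni2 {w : E} (hw : ρ q w = -w ∧ ρ (MulAut.conj b q) w = w) : ∃ s : ZMod 3, w = s • ρ b e := by
  obtain ⟨s, hs⟩ := h.uni _ (s31 h.fg (s23 h.fg hw))
  exact ⟨s, by rw [← map_smul, ← hs, h.b3]⟩

theorem uni3 {w : E} (hw : ρ q w = -w ∧ ρ (MulAut.conj b q) w = -w) :
    ∃ s : ZMod 3, w = s • ρ b (ρ b e) := by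
  obtain ⟨s, hs⟩ := h.uni _ (s31 h.fg hw)
  exact ⟨s, by rw [← map_smul, ← map_smul, ← hs, h.b3]⟩

theorem dec (v : E) : ∃ c, (ρ q c = c ∧ ρ (MulAut.conj b q) c = c) ∧ ∃ i j k : ZMod 3,
    v = c + i • e + j • ρ b e + k • ρ b (ρ b e) := by
  obtain ⟨a0, -, a1, -, a2, -, a3, -, h0, h1, h2, h3, rfl⟩ :=
    decQ (ρ := ρ) h.fg ⊤ (fun _ _ => ⟨trivial, trivial⟩) (Submodule.mem_top (x := v))
  obtain ⟨i, rfl⟩ := h.uni _ h1
  obtain ⟨j, rfl⟩ := h.uni2 h2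
  obtain ⟨k, rfl⟩ := h.uni3 h3
  exact ⟨a0, h0, i, j, k, rfl⟩

theorem sgn {y : S} (h1 : ⁅y, q⁆ = 1) (h2 : ⁅y, MulAut.conj b q⁆ = 1) :
    (∀ c, ρ q c = c ∧ ρ (MulAut.conj b q) c = c → ρ q (ρ y c) = ρ y c ∧ ρ (MulAut.conj b q) (ρ y c) = ρ y c) ∧
    ∃ i j k : ZMod 3, i * i = 1 ∧ j * j = 1 ∧ k * k = 1 ∧ ρ y e = i • e ∧ ρ y (ρ b e) = j • ρ b e ∧
      ρ y (ρ b (ρ b e)) = k • ρ b (ρ b e) := by
  have c1 : ∀ v, ρ q (ρ y v) = ρ y (ρ q v) := fun v => by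
    rw [← rmul, ← commutatorElement_eq_one_iff_mul_comm.1 h1, rmul]
  have c2 : ∀ v, ρ (MulAut.conj b q) (ρ y v) = ρ y (ρ (MulAut.conj b q) v) := fun v => by
    rw [← rmul, ← commutatorElement_eq_one_iff_mul_comm.1 h2, rmul]
  have e2 := s12 h.fg h.w1
  have e3 := s23 h.fg e2
  have binj : ∀ g : S, ∀ v, ρ g v = 0 → v = 0 := fun g v e => by rw [← rinv ρ g v, e, map_zero]
  have sq : ∀ (i : ZMod 3) (v : E), v ≠ 0 → ρ y v = i • v → i * i = 1 := fun i v hv e =>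
    (by decide : ∀ i : ZMod 3, i ≠ 0 → i * i = 1) i fun i0 => hv (binj y v (by rw [e, i0, zero_smul]))
  obtain ⟨i, hi⟩ := h.uni (ρ y e) (by rw [c1, c2, h.w1.1, h.w1.2, map_neg]; exact ⟨rfl, rfl⟩)
  obtain ⟨j, hj⟩ := h.uni2 (w := ρ y (ρ b e)) (by rw [c1, c2, e2.1, e2.2, map_neg]; exact ⟨rfl, rfl⟩)
  obtain ⟨k, hk⟩ := h.uni3 (w := ρ y (ρ b (ρ b e))) (by rw [c1, c2, e3.1, e3.2, map_neg]; exact ⟨rfl, rfl⟩)
  exact ⟨fun c hc => by rw [c1, c2, hc.1, hc.2]; exact ⟨rfl, rfl⟩, i, j, k, sq i _ h.ne hi,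
    sq j _ (fun e => h.ne (binj b _ e)) hj, sq k _ (fun e => h.ne (binj b _ (binj b _ e))) hk, hi, hj, hk⟩

theorem diag (hf : Function.Injective ρ) {g : S}
    (h0 : ∀ c, ρ q c = c ∧ ρ (MulAut.conj b q) c = c → ρ g c = c) {i j k : ZMod 3}
    (h1 : ρ g e = i • e) (h2 : ρ g (ρ b e) = j • ρ b e) (h3 : ρ g (ρ b (ρ b e)) = k • ρ b (ρ b e))
    (hs : i * j * k = 1) : g ∈ h.fg.Q := by
  have ex : ∀ g' : S, (∀ c, ρ q c = c ∧ ρ (MulAut.conj b q) c = c → ρ g' c = c) → ρ g' e = i • e →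
      ρ g' (ρ b e) = j • ρ b e → ρ g' (ρ b (ρ b e)) = k • ρ b (ρ b e) → g = g' := fun g' a0 a1 a2 a3 => hf (by
    ext v
    obtain ⟨c, hc, i, j, k, rfl⟩ := h.dec v
    simp only [map_add, map_smul, h0 c hc, a0 c hc, h1, h2, h3, a1, a2, a3])
  have e2 := s12 h.fg h.w1
  have e3 := s23 h.fg e2
  rcases (by decide : ∀ i j k : ZMod 3, i * j * k = 1 → (i = 1 ∧ j = 1 ∧ k = 1) ∨ (i = 1 ∧ j = -1 ∧ k = -1) ∨
    (i = -1 ∧ j = 1 ∧ k = -1) ∨ (i = -1 ∧ j = -1 ∧ k = 1)) i j k hs with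
    ⟨rfl, rfl, rfl⟩ | ⟨rfl, rfl, rfl⟩ | ⟨rfl, rfl, rfl⟩ | ⟨rfl, rfl, rfl⟩
  · exact Or.inl (ex 1 (fun c _ => rone ρ c) (by simp) (by simp) (by simp))
  · exact Or.inr (Or.inl (ex q (fun c hc => hc.1) (by simp [h.w1.1]) (by simp [e2.1]) (by simp [e3.1])))
  · exact Or.inr (Or.inr (Or.inl (ex _ (fun c hc => hc.2) (by rw [h.w1.2]; simp) (by rw [e2.2]; simp)
      (by rw [e3.2]; simp))))
  · exact Or.inr (Or.inr (Or.inr (ex _ (fun c hc => by rw [rmul, hc.2, hc.1])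
      (by rw [rmul, h.w1.2, map_neg, h.w1.1]; simp) (by rw [rmul, e2.2, e2.1]; simp)
      (by rw [rmul, e3.2, map_neg, e3.1]; simp))))

theorem H1 (hf : Function.Injective ρ) {y : S} (h1 : ⁅y, q⁆ = 1) (h2 : ⁅y, MulAut.conj b q⁆ = 1) :
    y⁻¹ * MulAut.conj b y ∈ h.fg.Q := by
  obtain ⟨a0, i, j, k, i2, j2, k2, a1, a2, a3⟩ := h.sgn h1 h2
  have iv : ∀ (i : ZMod 3) (v : E), i * i = 1 → ρ y v = i • v → ρ y⁻¹ v = i • v := fun i v i2 e => by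
    conv_lhs => rw [← one_smul (ZMod 3) v, ← i2, mul_smul, ← e, map_smul, rinv]
  refine h.diag hf (i := k * i) (j := i * j) (k := j * k) (fun c hc => ?_) ?_ ?_ ?_ ?_
  · conv_lhs => rw [rmul, ← h.fix c hc, rcj h.fg, h.fix _ (a0 c hc), rinv]
  · conv_lhs => rw [rmul, ← h.b3 e, rcj h.fg, a3, map_smul, h.b3, map_smul, iv _ _ i2 a1, ← mul_smul]
  · rw [rmul, rcj h.fg, a1, map_smul, map_smul, iv _ _ j2 a2, ← mul_smul]
  · rw [rmul, rcj h.fg, a2, map_smul, map_smul, iv _ _ k2 a3, ← mul_smul]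
  · linear_combination (j * j * k * k) * i2 + (k * k) * j2 + k2

theorem mvU {N : Submodule (ZMod 3) E} (he : e ∈ N) (hb : ∀ v ∈ N, ρ b v ∈ N) {g : S}
    (h0 : ∀ c, ρ q c = c ∧ ρ (MulAut.conj b q) c = c → ρ g c = c) (hg : ∀ v ∈ N, ρ g v ∈ N) :
    g ∈ Mv ρ N := fun v => by
  obtain ⟨c, hc, i, j, k, rfl⟩ := h.dec v
  have : i • e + j • ρ b e + k • ρ b (ρ b e) ∈ N :=
    add_mem (add_mem (N.smul_mem _ he) (N.smul_mem _ (hb _ he))) (N.smul_mem _ (hb _ (hb _ he)))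
  rw [add_assoc, add_assoc, ← add_assoc (i • e), map_add, h0 c hc, add_sub_add_left_eq_sub]
  exact sub_mem (hg _ this) this

theorem irr {R : Subgroup S} (hR : R ≤ ⁅R, zpowers b⁆) (h3 : (Nat.card R).Coprime 3) (hq : q ∈ R)
    (hq' : MulAut.conj b q ∈ R) {N : Submodule (ZMod 3) E} (hN : N ≤ F0 ρ R)
    (hb : ∀ v ∈ N, ρ b v ∈ N) (hr : ∀ r ∈ R, ∀ v ∈ N, ρ r v ∈ N) : N = ⊥ ∨ N = F0 ρ R := by
  by_cases he : e ∈ N
  · exact Or.inr (le_antisymm hN (F0_le (R_le hR (h.mvU he hb h.fix hb) fun r hr' k hk =>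
      Mv_conj hk (hr r hr'))))
  left
  have z : ∀ (s : ZMod 3), s • e ∈ N → s = 0 := fun s hs => by
    by_contra s0
    exact he ((Submodule.smul_mem_iff _ s0).1 hs)
  have h1 : b ∈ Fx ρ N := fun v hv => by
    obtain ⟨a0, -, a1, m1, a2, m2, a3, m3, h0, h1, h2, h3, rfl⟩ :=
      decQ (ρ := ρ) h.fg N (fun v hv => ⟨hr _ hq v hv, hr _ hq' v hv⟩) hv
    obtain ⟨i, rfl⟩ := h.uni _ h1
    obtain ⟨j, rfl⟩ := h.uni2 h2
    obtain ⟨k, rfl⟩ := h.uni3 h3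
    have j0 := z j (by simpa only [map_smul, h.b3] using hb _ (hb _ m2))
    have k0 := z k (by simpa only [map_smul, h.b3] using hb _ m3)
    simp [z i m1, j0, k0, h.fix _ h0]
  have h2 : R ≤ Fx ρ N := R_le hR h1 fun r hr' k hk v hv => by
    rw [rmul, rmul, hk _ (hr _ (inv_mem hr') v hv), rinv']
  rw [eq_bot_iff, ← (F01 (ρ := ρ) h3).1]
  exact le_inf hN fun v hv r hr' => h2 hr' v hv

theorem eF0 {R : Subgroup S} (hq' : MulAut.conj b q ∈ R) : e ∈ F0 ρ R :=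
  Submodule.subset_span ⟨_, hq', e, by
    rw [h.w1.2]; linear_combination (norm := abel) three e⟩

end WD

theorem eq_one_of_F {R : Subgroup S} (hf : Function.Injective ρ) (h3 : (Nat.card R).Coprime 3) {g g' : S}
    (h0 : ∀ v ∈ F0 ρ R, ρ g v = ρ g' v) (h1 : ∀ v ∈ F1 ρ R, ρ g v = ρ g' v) : g = g' := hf (by
  ext v
  obtain ⟨a, ha, c, hc, rfl⟩ := Submodule.mem_sup.1 ((F01 (ρ := ρ) h3).2.ge (Submodule.mem_top (x := v)))
  rw [map_add, map_add, h0 a ha, h1 c hc])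

end Cfsg.Agent.Jb3
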