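import Cfsg.Agent.Jb3.D
import Cfsg.Agent.BG.Base6

/-! S4415, elimination of odd primes (helper3): `norm13`, `WD.two`. -/

set_option autoImplicit false
set_option linter.unusedSectionVars false

namespace Cfsg.Agent.Jb3

open Subgroup Scn
open scoped commutatorElement

theorem cntc {G : Type*} [Group G] [Finite G] {p : ℕ} [Fact p.Prime] {c : G} (hc : orderOf c = p)
    {U : Subgroup G} (hU : ∀ u ∈ U, c * u * c⁻¹ ∈ U) :
    Nat.card U ≡ Nat.card (U ⊓ centralizer {c} : Subgroup G) [MOD p] := by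
  have hK : IsPGroup p (zpowers c) := IsPGroup.of_card (n := 1) (by rw [Nat.card_zpowers, hc, pow_one])
  have hn : zpowers c ≤ normalizer (U : Set G) := zpowers_le.2 (mem_normalizer_fintype hU)
  let : MulAction (zpowers c) U :=
    { smul := fun g u => ⟨g * u * g⁻¹, (mem_normalizer_iff.1 (hn g.2) u).1 u.2⟩
      one_smul := fun u => Subtype.ext (by change 1 * (u : G) * 1⁻¹ = u; simp)
      mul_smul := fun a b u => Subtype.ext (by
        change (a * b : G) * u * (a * b : G)⁻¹ = a * (b * u * (b : G)⁻¹) * (a : G)⁻¹; group) }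
  have := hK.card_modEq_card_fixedPoints U
  suffices e : MulAction.fixedPoints (zpowers c) U ≃ (U ⊓ centralizer {c} : Subgroup G) by
    rwa [Nat.card_congr e] at this
  exact
    { toFun := fun u => ⟨u.1.1, u.1.2, mem_centralizer_singleton_iff.2
        (mul_inv_eq_iff_eq_mul.1 (congrArg Subtype.val (u.2 ⟨c, mem_zpowers c⟩))).symm⟩
      invFun := fun u => ⟨⟨u.1, u.2.1⟩, fun g => Subtype.ext (mul_inv_eq_iff_eq_mul.2
        (mem_centralizer_singleton_iff.1 ((zpowers_le (H := centralizer {(u : G)})).2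
          (mem_centralizer_singleton_iff.2 (mem_centralizer_singleton_iff.1 u.2.2).symm) g.2)))⟩
      left_inv := fun _ => rfl
      right_inv := fun _ => rfl }

theorem pw_le {r j m N : ℕ} (h : r ^ j ∣ N) (hm : ¬ r ^ (m + 1) ∣ N) : j ≤ m := by
  by_contra hn
  exact hm ((pow_dvd_pow r (by omega)).trans h)

theorem ar13 {r i j : ℕ} (hr : r.Prime) (hij : i ≤ j) (h : r ^ j ∣ 2 ^ 10 * 5 * 11 ^ 2 * 13)
    (hm : r ^ j ≡ r ^ i [MOD 13]) : i = j := by
  rcases j with _ | j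
  · omega
  have h1 : r ∣ 2 ^ 10 * 5 * 11 ^ 2 * 13 := (dvd_pow_self r (by omega)).trans h
  simp only [hr.dvd_mul, hr.prime.dvd_pow_iff_dvd (by norm_num : 10 ≠ 0),
    hr.prime.dvd_pow_iff_dvd (by norm_num : 2 ≠ 0), Nat.prime_dvd_prime_iff_eq hr Nat.prime_two,
    Nat.prime_dvd_prime_iff_eq hr Nat.prime_five, Nat.prime_dvd_prime_iff_eq hr (by norm_num : Nat.Prime 11),
    Nat.prime_dvd_prime_iff_eq hr (by norm_num : Nat.Prime 13)] at h1
  generalize j + 1 = k at *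
  rcases h1 with ((rfl | rfl) | rfl) | rfl
  · have := pw_le (m := 10) h (by norm_num)
    interval_cases k <;> interval_cases i <;> first | rfl | exact absurd hm (by decide)
  · have := pw_le (m := 1) h (by norm_num)
    interval_cases k <;> interval_cases i <;> first | rfl | exact absurd hm (by decide)
  · have := pw_le (m := 2) h (by norm_num)
    interval_cases k <;> interval_cases i <;> first | rfl | exact absurd hm (by decide)
  · have := pw_le (m := 1) h (by norm_num)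
    interval_cases k <;> interval_cases i <;> first | rfl | exact absurd hm (by decide)

theorem norm13 {G : Type*} [Group G] [Finite G] [Group.IsSolvable G]
    (hG : Nat.card G ∣ 2 ^ 10 * 5 * 11 ^ 2 * 13) {c : G} (hc : orderOf c = 13) : (zpowers c).Normal := by
  have : Fact (Nat.Prime 13) := ⟨by norm_num⟩
  have h1 : Cfsg.fittingSubgroup G ≤ centralizer {c} := by
    rw [Solv.fitting_eq_iSup_pCore]
    refine iSup_le fun r => ?_
    have : Fact (r : ℕ).Prime := ⟨r.2⟩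
    have h2 := cntc hc (U := Cfsg.pCore r G) fun u hu => (inferInstance : (Cfsg.pCore r G).Normal).conj_mem u hu c
    obtain ⟨j, hj⟩ := IsPGroup.iff_card.1 (Solv.isPGroup_pCore r G)
    obtain ⟨i, hi, e⟩ := (Nat.dvd_prime_pow r.2).1
      (hj ▸ card_dvd_of_le (inf_le_left : Cfsg.pCore r G ⊓ centralizer {c} ≤ _))
    rw [hj, e] at h2
    obtain rfl := ar13 r.2 hi (hj ▸ (card_subgroup_dvd_card _).trans hG) h2
    exact inf_eq_left.1 (eq_of_le_of_card_ge inf_le_left (hj.trans e.symm).le)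
  have hK : IsPGroup 13 (zpowers c) := IsPGroup.of_card (n := 1) (by rw [Nat.card_zpowers, hc, pow_one])
  have h2 := Solv.le_pCore_of_le_fitting hK (zpowers_le.2 (Solv.centralizer_fitting_le fun g hg =>
    mem_centralizer_singleton_iff.1 (h1 hg)))
  obtain ⟨j, hj⟩ := IsPGroup.iff_card.1 (Solv.isPGroup_pCore 13 G)
  have h3 := pw_le (m := 1) (hj ▸ (card_subgroup_dvd_card _).trans hG) (by norm_num)
  rw [eq_of_le_of_card_ge h2 (by
    rw [hj, Nat.card_zpowers, hc]; exact (Nat.pow_le_pow_right (by norm_num) h3).trans (by norm_num))]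
  infer_instance

theorem cyc {G : Type*} [Group G] {c g h : G} (hg : g * c * g⁻¹ ∈ zpowers c) (hh : h * c * h⁻¹ ∈ zpowers c) :
    ⁅c, (g * h)⁻¹ * (h * g)⁆ = 1 := by
  obtain ⟨i, hi⟩ := mem_zpowers_iff.1 hg
  obtain ⟨j, hj⟩ := mem_zpowers_iff.1 hh
  have e : g * (h * c * h⁻¹) * g⁻¹ = h * (g * c * g⁻¹) * h⁻¹ := by
    conv_lhs => rw [← hj, ← conj_zpow, ← hi, ← zpow_mul]
    conv_rhs => rw [← hi, ← conj_zpow, ← hj, ← zpow_mul, mul_comm]
  calc ⁅c, (g * h)⁻¹ * (h * g)⁆ = c * (g * h)⁻¹ * (h * (g * c * g⁻¹) * h⁻¹)⁻¹ * (g * h) := by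
        rw [commutatorElement_def]; group
    _ = 1 := by rw [← e]; group

variable {S : Type*} [Group S] [Finite S] {E : Type*} [AddCommGroup E] [Module (ZMod 3) E] [Finite E]
  {ρ : Representation (ZMod 3) S E}

theorem Mv_mono {M M' : Submodule (ZMod 3) E} (h : M ≤ M') : Mv ρ M ≤ Mv ρ M' := fun _ hg v => h (hg v)

theorem WD.two [Group.IsSolvable S] {b q : S} {e : E} (h : WD ρ b q e) (hf : Function.Injective ρ)
    (ho : orderOf b = 3) {D : Submodule (ZMod 3) E} (hD : Module.finrank (ZMod 3) D ≤ 2) (hb : b ∈ Mv ρ D)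
    {R : Subgroup S} (hR : R ≤ ⁅R, zpowers b⁆) (h3 : (Nat.card R).Coprime 3) (hq : q ∈ R)
    (hq' : MulAut.conj b q ∈ R) (hn : zpowers b ≤ normalizer (R : Set S)) : IsPGroup 2 R := by
  refine IsPGroup.of_card (Nat.eq_prime_pow_of_unique_prime_dvd Nat.card_pos.ne' fun {p} hp hd => ?_)
  by_contra p2
  have : Fact p.Prime := ⟨hp⟩
  have hc : (Nat.card R).Coprime (Nat.card (zpowers b)) := by rwa [Nat.card_zpowers, ho]
  obtain ⟨K, hK, hKn⟩ := BG.coprime_Hall_exists {p} hn hc inferInstance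
  by_cases hKb : K ≤ centralizer (zpowers b : Set S)
  · have := BG.coprime_comm_pcore (π := {p}ᶜ) hn hc inferInstance (by rwa [compl_compl]) hKb
    exact Solv.isPiNum_card_piCoreOf _ _ p hp (hd.trans (card_dvd_of_le (hR.trans this))) rfl
  obtain ⟨x, hx, hxb⟩ : ∃ x ∈ K, ⁅x, b⁆ ≠ 1 := by
    by_contra hn
    push Not at hn
    exact hKb (le_centralizer_iff.1 (zpowers_le.2 fun x hx =>
      commutatorElement_eq_one_iff_mul_comm.1 (hn x hx)))
  have bK : ∀ u ∈ K, b * u * b⁻¹ ∈ K := fun u hu => (mem_normalizer_iff.1 (hKn (mem_zpowers b)) u).1 hu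
  have cK : ⁅x, b⁆ ∈ K := by
    rw [commutatorElement_def, mul_assoc, mul_assoc, ← mul_assoc b]
    exact mul_mem hx (bK _ (inv_mem hx))
  have c3 : ∀ T : Subgroup S, T ≤ R → (Nat.card T).Coprime 3 := fun T hT =>
    h3.coprime_dvd_left (card_dvd_of_le hT)
  have nb : ⁅x, b⁆ ∉ centralizer {b} := fun hc => by
    have e1 : Commute ⁅x, b⁆ b := mem_centralizer_singleton_iff.1 hc
    have e2 : ⁅x, b⁆ ^ 3 = 1 := by
      have : (⁅x, b⁆ * b) ^ 3 = 1 := by
        rw [commutatorElement_def, inv_mul_cancel_right, conj_pow, ← ho, pow_orderOf_eq_one]; simp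
      rwa [e1.mul_pow, ← ho, pow_orderOf_eq_one, mul_one, ho] at this
    exact hxb (orderOf_eq_one_iff.1 (Nat.eq_one_of_dvd_coprimes h3
      (R.orderOf_dvd_natCard (hK.1 cK)) (orderOf_dvd_of_pow_eq_one e2)))
  have fD : Module.finrank (ZMod 3) (D.map (ρ x)) ≤ 2 := (Submodule.finrank_map_le _ _).trans hD
  have xb : x * b * x⁻¹ ∈ Mv ρ (D.map (ρ x)) := Mv_conj hb fun v hv => Submodule.mem_map_of_mem hv
  have cM : ∀ U : Submodule (ZMod 3) E, b ∈ Mv ρ U → ⁅x, b⁆ ∈ Mv ρ (U ⊔ D.map (ρ x)) := fun U hU =>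
    mul_mem (Mv_mono le_sup_right xb) (inv_mem (Mv_mono le_sup_left hU))
  -- first step
  obtain ⟨T, hT⟩ : ∃ T : Subgroup S, T = K ⊓ Mv ρ (D ⊔ D.map (ρ x)) := ⟨_, rfl⟩
  have cT : ⁅x, b⁆ ∈ T := hT ▸ ⟨cK, cM D hb⟩
  have bT : ∀ u ∈ T, b * u * b⁻¹ ∈ T := fun u hu => by
    rw [hT] at hu ⊢
    have := Mv_mono (ρ := ρ) (le_sup_left : D ≤ D ⊔ D.map (ρ x)) hb
    exact mem_inf.2 ⟨bK u hu.1, mul_mem (mul_mem this hu.2) (inv_mem this)⟩
  have TK : T ≤ K := hT ▸ inf_le_left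
  have d1 : Nat.card T ∣ 2 ^ 9 * 3 ^ 6 * 5 * 13 := by
    have := card_dvd_GL hf _ (hT ▸ inf_le_right : T ≤ Mv ρ (D ⊔ D.map (ρ x))) (c3 T (TK.trans hK.1))
    refine this.trans ?_
    have h4 := (Submodule.finrank_add_le_finrank_add_finrank D (D.map (ρ x))).trans (add_le_add hD fD)
    generalize Module.finrank (ZMod 3) (D ⊔ D.map (ρ x) : Submodule (ZMod 3) E) = n at h4
    interval_cases n <;> decide
  obtain ⟨j, hj⟩ : ∃ j, Nat.card T = p ^ j := ⟨_, Nat.eq_prime_pow_of_unique_prime_dvd Nat.card_pos.ne'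
    fun {d} hd hd' => hK.2.1 d hd (hd'.trans (card_dvd_of_le TK))⟩
  have j0 : j ≠ 0 := fun e => by
    rw [e, pow_zero, card_eq_one] at hj
    exact hxb (mem_bot.1 (hj ▸ cT))
  have p3 : p ≠ 3 := fun e => absurd (Nat.eq_one_of_dvd_coprimes h3 (e ▸ hd) dvd_rfl) (by norm_num)
  have h1 : p ∣ 2 ^ 9 * 3 ^ 6 * 5 * 13 := (dvd_pow_self p j0).trans (hj ▸ d1)
  simp only [hp.dvd_mul, hp.prime.dvd_pow_iff_dvd (by norm_num : 9 ≠ 0),
    hp.prime.dvd_pow_iff_dvd (by norm_num : 6 ≠ 0), Nat.prime_dvd_prime_iff_eq hp Nat.prime_two,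
    Nat.prime_dvd_prime_iff_eq hp Nat.prime_five, Nat.prime_dvd_prime_iff_eq hp Nat.prime_three,
    Nat.prime_dvd_prime_iff_eq hp (by norm_num : Nat.Prime 13), p2, p3, false_or] at h1
  have j1 : j = 1 := by
    rw [hj] at d1
    rcases h1 with rfl | rfl
    · have := pw_le (m := 1) d1 (by norm_num); omega
    · have := pw_le (m := 1) d1 (by norm_num); omega
  rw [j1, pow_one] at hj
  have oc : orderOf ⁅x, b⁆ = p := ((Nat.dvd_prime hp).1 (hj ▸ T.orderOf_dvd_natCard cT)).resolve_left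
    fun e => hxb (orderOf_eq_one_iff.1 e)
  rcases h1 with rfl | rfl
  · have h4 := cntc ho bT
    rcases (Nat.dvd_prime hp).1 (hj ▸ card_dvd_of_le (inf_le_left : T ⊓ centralizer {b} ≤ T)) with e' | e'
    · rw [hj, e'] at h4; exact absurd h4 (by decide)
    · exact nb (inf_eq_left.1 (eq_of_le_of_card_ge inf_le_left (hj.trans e'.symm).le) cT)
  have Tz : zpowers ⁅x, b⁆ = T := eq_of_le_of_card_ge (zpowers_le.2 cT) (by rw [Nat.card_zpowers, oc, hj])
  -- second step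
  let U : Submodule (ZMod 3) E := Submodule.span (ZMod 3) (Set.range ![e, ρ b e, ρ b (ρ b e)])
  have u1 : e ∈ U := Submodule.subset_span ⟨0, rfl⟩
  have u2 : ρ b e ∈ U := Submodule.subset_span ⟨1, rfl⟩
  have u3 : ρ b (ρ b e) ∈ U := Submodule.subset_span ⟨2, rfl⟩
  have ui : ∀ g : S, ρ g e ∈ U → ρ g (ρ b e) ∈ U → ρ g (ρ b (ρ b e)) ∈ U → ∀ v ∈ U, ρ g v ∈ U :=
    fun g a1 a2 a3 v hv => (Submodule.span_le (p := U.comap (ρ g))).2 (by
      rintro _ ⟨i, rfl⟩
      fin_cases i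
      exacts [a1, a2, a3]) hv
  have ub := ui b u2 u3 (by rw [h.b3]; exact u1)
  have e2 := s12 h.fg h.w1
  have e3 := s23 h.fg e2
  have fU : Module.finrank (ZMod 3) U ≤ 3 := 
    (finrank_range_le_card (R := ZMod 3) ![e, ρ b e, ρ b (ρ b e)]).trans (Fintype.card_fin 3).le
  let G : Subgroup S := R ⊓ Mv ρ (U ⊔ D.map (ρ x))
  have d2 : Nat.card G ∣ 2 ^ 10 * 5 * 11 ^ 2 * 13 := by
    have := card_dvd_GL hf _ (inf_le_right : G ≤ Mv ρ (U ⊔ D.map (ρ x))) (c3 G inf_le_left)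
    refine ((c3 G inf_le_left).pow_right 10).dvd_of_dvd_mul_left (this.trans ?_)
    have h4 := (Submodule.finrank_add_le_finrank_add_finrank U (D.map (ρ x))).trans (add_le_add fU fD)
    generalize Module.finrank (ZMod 3) (U ⊔ D.map (ρ x) : Submodule (ZMod 3) E) = n at h4
    interval_cases n <;> decide
  have cG : ⁅x, b⁆ ∈ G := ⟨hK.1 cK, cM U (h.mvU u1 ub h.fix ub)⟩
  have nG := norm13 d2 (c := ⟨_, cG⟩) (by rw [← oc]; exact (orderOf_mk _ _))
  have gc : ∀ g ∈ G, g * ⁅x, b⁆ * g⁻¹ ∈ zpowers ⁅x, b⁆ := fun g hg => by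
    obtain ⟨i, hi⟩ := mem_zpowers_iff.1 (nG.conj_mem _ (mem_zpowers _) ⟨g, hg⟩)
    exact mem_zpowers_iff.2 ⟨i, congrArg Subtype.val hi⟩
  have bc : b * ⁅x, b⁆ * b⁻¹ ∈ zpowers ⁅x, b⁆ := Tz ▸ bT _ cT
  have k : ∀ s : S, FG (MulAut.conj b) s → s ∈ G → ⁅⁅x, b⁆, MulAut.conj b s⁆ = 1 := fun s hs hG => by
    have e1 := cyc (gc s hG) bc
    have e2 : s * MulAut.conj b s = b⁻¹ * s * b := by
      conv_rhs => rw [← hs.a3, MulAut.conj_apply]
      group
    rwa [show (s * b)⁻¹ * (b * s) = b⁻¹ * s⁻¹ * b * s by group, inv_eq_of_mul_eq_one_right hs.sq, ← e2,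
      mul_assoc, hs.comm, ← mul_assoc, hs.sq, one_mul] at e1
  have k1 := k q h.fg ⟨hq, Mv_mono le_sup_left (h.mvU u1 ub (fun c hc => hc.1)
    (ui q (by rw [h.w1.1]; exact u1) (by rw [e2.1]; exact neg_mem u2) (by rw [e3.1]; exact neg_mem u3)))⟩
  have k2 := k _ h.fg.next ⟨hq', Mv_mono le_sup_left (h.mvU u1 ub (fun c hc => hc.2)
    (ui _ (by rw [h.w1.2]; exact neg_mem u1) (by rw [e2.2]; exact u2) (by rw [e3.2]; exact neg_mem u3)))⟩
  rw [h.fg.aa] at k2
  have k3 : ⁅⁅x, b⁆, q⁆ = 1 := by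
    rw [commutatorElement_eq_one_iff_commute] at k1 k2 ⊢
    have := k2.mul_right k1.inv_right
    rwa [mul_inv_cancel_right] at this
  have k4 := h.fg.Qsq _ (h.H1 hf k3 k1)
  have k5 : ⁅x, b⁆⁻¹ * MulAut.conj b ⁅x, b⁆ = 1 := orderOf_eq_one_iff.1 (Nat.eq_one_of_dvd_coprimes
    (by norm_num : Nat.Coprime 13 2) (hj ▸ T.orderOf_dvd_natCard (mul_mem (inv_mem cT) (bT _ cT)))
    (orderOf_dvd_of_pow_eq_one (by rw [pow_two, k4])))
  exact nb (mem_centralizer_singleton_iff.2 (mul_inv_eq_iff_eq_mul.1 (inv_mul_eq_one.1 k5).symm).symm)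

end Cfsg.Agent.Jb3
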