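import Cfsg.Agent.Jb3.E

/-! S4415, assembly (helper3): `struct_R`, `exists_fg`, `mem_core`. -/

set_option autoImplicit false
set_option linter.unusedSectionVars false

namespace Cfsg.Agent.Jb3

open Subgroup Scn
open scoped commutatorElement

variable {S : Type*} [Group S] [Finite S] {E : Type*} [AddCommGroup E] [Module (ZMod 3) E] [Finite E]
  {ρ : Representation (ZMod 3) S E}

theorem struct_R [Group.IsSolvable S] {b q : S} {e : E} (h : WD ρ b q e) (hf : Function.Injective ρ)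
    (ho : orderOf b = 3) {D : Submodule (ZMod 3) E} (hD : Module.finrank (ZMod 3) D ≤ 2) (hb : b ∈ Mv ρ D)
    {R : Subgroup S} (hR : R ≤ ⁅R, zpowers b⁆) (h3 : (Nat.card R).Coprime 3) (hq : q ∈ R)
    (hq' : MulAut.conj b q ∈ R) (hn : zpowers b ≤ normalizer (R : Set S)) :
    (Cfsg.IsElementaryAbelian 2 R ∧ Nat.card R = 4) ∨ (Cfsg.IsExtraspecial 2 R ∧ Nat.card R = 32 ∧
      ∃ A : Subgroup S, A ≤ R ∧ Cfsg.IsElementaryAbelian 2 A ∧ Nat.card A = 8) := by
  have h2 := h.two hf ho hD hb hR h3 hq hq' hn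
  let φ : MulAut R := R.normalizerMonoidHom ⟨b, hn (mem_zpowers b)⟩
  have hφ : ∀ x : R, (φ x : S) = MulAut.conj b (x : S) := fun _ => rfl
  have b3 : b * b * b = 1 := by rw [← pow_orderOf_eq_one b, ho, pow_succ, pow_two]
  have φ3 : ∀ x, φ (φ (φ x)) = x := fun x => Subtype.ext (by
    rw [hφ, hφ, hφ]
    simp only [← MulAut.mul_apply, ← map_mul, ← mul_assoc, b3, map_one, MulAut.one_apply])
  have bR : ∀ r ∈ R, b * r * b⁻¹ ∈ R := fun r hr => (mem_normalizer_iff.1 (hn (mem_zpowers b)) r).1 hr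
  have fgS : ∀ s : R, FG φ s → FG (MulAut.conj b) (s : S) := fun s hs =>
    ⟨congrArg Subtype.val hs.sq, fun e => hs.ne (Subtype.ext e), congrArg Subtype.val hs.aa⟩
  have F0r : ∀ r ∈ R, ∀ v ∈ F0 ρ R, ρ r v ∈ F0 ρ R := fun r hr =>
    F0_inv fun s hs => mul_mem (mul_mem hr hs) (inv_mem hr)
  rcases two_group h2 φ3 (q0 := ⟨q, hq⟩) (by
      refine eq_top_iff.2 fun x _ => ?_
      have : R ≤ (closure {g : R | ∃ x, g = x⁻¹ * φ x}).map R.subtype := hR.trans (commutator_le.2 (by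
        intro r hr k hk
        obtain ⟨n, rfl⟩ := (mem_powers_iff_mem_zpowers.2 hk : k ∈ Submonoid.powers b)
        have : ∀ n : ℕ, ∀ x : R, (x : S)⁻¹ * (b ^ n * x * (b ^ n)⁻¹) ∈
            (closure {g : R | ∃ x, g = x⁻¹ * φ x}).map R.subtype := by
          intro n
          induction n with
          | zero => intro x; simp [one_mem]
          | succ n ih =>
            intro x
            have := mul_mem (mem_map_of_mem R.subtype
              (subset_closure (k := {g : R | ∃ x, g = x⁻¹ * φ x}) ⟨x, rfl⟩)) (ih (φ x))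
            convert this using 1
            change _ = (x : S)⁻¹ * (b * x * b⁻¹) * ((b * x * b⁻¹)⁻¹ * (b ^ n * (b * x * b⁻¹) * (b ^ n)⁻¹))
            group
        convert this n ⟨r⁻¹, inv_mem hr⟩ using 1
        simp only [commutatorElement_def]; group))
      obtain ⟨y, hy, e⟩ := this x.2
      exact (Subtype.ext e : y = x) ▸ hy)
    ⟨Subtype.ext h.fg.sq, fun e => h.fg.ne (congrArg Subtype.val e), Subtype.ext h.fg.aa⟩
    (fun s hs y h1 h2 => by
      obtain ⟨e', h'⟩ := exists_WD (fgS s hs) hf h.b3 hD hb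
      have := h'.H1 hf (y := y) (congrArg Subtype.val h1) (congrArg Subtype.val h2)
      simp only [FG.mem_Q, Subtype.ext_iff] at this ⊢
      exact this)
    (fun s hs Y hY mY y hy => by
      obtain ⟨e', h'⟩ := exists_WD (fgS s hs) hf h.b3 hD hb
      have Yφ : ∀ y ∈ Y, φ y ∈ Y := fun y hy => by
        obtain ⟨a1, a2⟩ := (mY y).1 hy
        refine (mY _).2 ⟨?_, by rw [← map_commutatorElement, a1, map_one]⟩
        rw [commutatorElement_eq_one_iff_commute] at a1 a2
        conv_lhs => rw [← hs.a3, ← map_commutatorElement,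
          commutatorElement_eq_one_iff_commute.2 (a1.mul_right a2), map_one]
      let N : Submodule (ZMod 3) E :=
        { carrier := {v | v ∈ F0 ρ R ∧ ∀ y ∈ Y, ρ (y * y : R) v = v}
          zero_mem' := ⟨zero_mem _, fun _ _ => map_zero _⟩
          add_mem' := fun ha hb => ⟨add_mem ha.1 hb.1, fun y hy => by rw [map_add, ha.2 y hy, hb.2 y hy]⟩
          smul_mem' := fun c v hv => ⟨Submodule.smul_mem _ _ hv.1, fun y hy => by rw [map_smul, hv.2 y hy]⟩ }
      have eN : e' ∈ N := ⟨h'.eF0 (φ s).2, fun y hy => by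
        obtain ⟨-, i, j, k, i2, -, -, a1, -⟩ := h'.sgn (y := y) (congrArg Subtype.val ((mY y).1 hy).1)
          (congrArg Subtype.val ((mY y).1 hy).2)
        rw [Subgroup.coe_mul, rmul, a1, map_smul, a1, ← mul_smul, i2, one_smul]⟩
      rcases h'.irr hR h3 s.2 (φ s).2 (N := N) (fun v hv => hv.1) (fun v hv => ⟨F0_inv bR v hv.1, fun y hy => by
          conv_lhs => rw [← φ3 (y * y), hφ, rcj (fgS s hs), map_mul, map_mul, hv.2 _ (Yφ _ (Yφ _ hy))]⟩)
        (fun r hr v hv => ⟨F0r r hr v hv.1, fun y hy => by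
          have := hv.2 _ (hY.conj_mem' y hy ⟨r, hr⟩)
          conv_rhs => rw [← this, ← rmul]
          rw [← rmul]
          congr 2
          simp only [Subgroup.coe_mul, coe_inv]; group⟩) with e | e
      · exact absurd ((Submodule.mem_bot _).1 (e ▸ eN)) h'.ne
      · exact Subtype.ext (eq_one_of_F hf h3 (fun v hv => by rw [(e.ge hv).2 y hy]; exact (rone ρ v).symm)
          fun v hv => by rw [hv _ (y * y).2]; exact (rone ρ v).symm))
    (fun z hz z' hz' z1 z1' => by
      have k : ∀ z ∈ Z0 φ, z ≠ 1 → ∀ v ∈ F0 ρ R, ρ z v = -v := fun z hz z1 v hv => by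
        let N : Submodule (ZMod 3) E :=
          { carrier := {v | v ∈ F0 ρ R ∧ ρ z v = v}
            zero_mem' := ⟨zero_mem _, map_zero _⟩
            add_mem' := fun ha hb => ⟨add_mem ha.1 hb.1, by rw [map_add, ha.2, hb.2]⟩
            smul_mem' := fun c v hv => ⟨Submodule.smul_mem _ _ hv.1, by rw [map_smul, hv.2]⟩ }
        rcases h.irr hR h3 hq hq' (N := N) (fun v hv => hv.1) (fun v hv => ⟨F0_inv bR v hv.1, by
            conv_lhs => rw [← hz.2.2, hφ, rcj h.fg, hv.2]⟩)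
          (fun r hr v hv => ⟨F0r r hr v hv.1, by
            have := congrArg Subtype.val (Z0c hz ⟨r, hr⟩)
            simp only [Subgroup.coe_mul] at this
            rw [← rmul, ← this, rmul, hv.2]⟩) with e | e
        · have : ρ z v + v ∈ N := ⟨add_mem (F0r _ z.2 v hv) hv, by
            rw [map_add, ← rmul, ← Subgroup.coe_mul, hz.2.1, Subgroup.coe_one, rone, add_comm]⟩
          exact eq_neg_of_add_eq_zero_left ((Submodule.mem_bot _).1 (e ▸ this))
        · exact absurd (Subtype.ext (eq_one_of_F hf h3 (fun v hv => by rw [(e.ge hv).2]; exact (rone ρ v).symm)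
            fun v hv => by rw [hv _ z.2]; exact (rone ρ v).symm)) z1
      exact Subtype.ext (eq_one_of_F hf h3 (fun v hv => by rw [k z hz z1 v hv, k z' hz' z1' v hv])
        fun v hv => by rw [hv _ z.2, hv _ z'.2])) with ⟨a1, a2, a3⟩ | ⟨a1, a2, A, a3, a4, a5⟩
  · exact Or.inl ⟨⟨⟨⟨a1⟩⟩, fun a ha => by rw [pow_two]; exact congrArg Subtype.val (a2 ⟨a, ha⟩)⟩, a3⟩
  · have : IsMulCommutative A := ⟨⟨fun a b => Subtype.ext (a3 _ a.2 _ b.2)⟩⟩
    refine Or.inr ⟨a1, a2, A.map R.subtype, map_subtype_le A, ⟨inferInstance, ?_⟩, by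
      rw [card_map_of_injective R.subtype_injective, a5]⟩
    rintro _ ⟨a, ha, rfl⟩
    rw [pow_two]; exact congrArg Subtype.val (a4 a ha)

theorem exists_fg {b : S} (ho : orderOf b = 3) {Q : Subgroup S} (hQ : Cfsg.IsElementaryAbelian 2 Q)
    (h4 : Nat.card Q = 4) (hn : zpowers b ≤ normalizer (Q : Set S))
    (hc : ¬ zpowers b ≤ centralizer (Q : Set S)) : ∃ q, FG (MulAut.conj b) q := by
  have b3 : b * b * b = 1 := by rw [← pow_orderOf_eq_one b, ho, pow_succ, pow_two]
  have φ3 : ∀ x, MulAut.conj b (MulAut.conj b (MulAut.conj b x)) = x := fun x => by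
    simp only [← MulAut.mul_apply, ← map_mul, ← mul_assoc, b3, map_one, MulAut.one_apply]
  have bQ : ∀ r ∈ Q, MulAut.conj b r ∈ Q := fun r hr => (mem_normalizer_iff.1 (hn (mem_zpowers b)) r).1 hr
  have h2 : ∀ a ∈ Q, a * a = 1 := fun a ha => by rw [← pow_two, hQ.2 a ha]
  obtain ⟨q, hq, hne⟩ : ∃ q ∈ Q, MulAut.conj b q ≠ q := by
    by_contra hn
    push Not at hn
    exact hc (zpowers_le.2 fun q hq => (mul_inv_eq_iff_eq_mul.1 (hn q hq)).symm)
  have n1 : ∀ u : S, u ≠ 1 → MulAut.conj b u ≠ 1 := fun u h e => h ((map_eq_one_iff _ (MulAut.conj b).injective).1 e)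
  have q1 : q ≠ 1 := fun e => hne (by rw [e, map_one])
  refine ⟨q, h2 q hq, hne, ?_⟩
  rcases four_enum h4.le h2 hq (bQ q hq) q1 (n1 q q1) hne.symm _ (bQ _ (bQ q hq)) with e | e | e | e
  · exact absurd e (n1 _ (n1 q q1))
  · exact absurd ((congrArg _ e).symm.trans (φ3 q)) hne
  · exact absurd ((MulAut.conj b).injective e) hne
  · exact e

theorem mem_core [Group.IsSolvable S] {b q : S} (h : FG (MulAut.conj b) q) (P : Sylow 3 S)
    (hb : ∀ x ∈ (P : Subgroup S), x * b = b * x) : q ∈ Cfsg.pPrimeCore 3 S := by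
  let π := QuotientGroup.mk' (Cfsg.pPrimeCore 3 S)
  have h1 : π b ∈ Cfsg.pCore 3 (S ⧸ Cfsg.pPrimeCore 3 S) :=
    Solv.centralizer_pCore_le (Solv.pPrimeCore_quotient_pPrimeCore 3 S) fun y hy => by
      obtain ⟨x, hx, rfl⟩ := Solv.pCore_le_sylow (P.mapSurjective (QuotientGroup.mk'_surjective _)) hy
      rw [← map_mul, hb x hx, map_mul]
  have e : q = b * (MulAut.conj b q * b⁻¹ * (MulAut.conj b q)⁻¹) := by
    have := h.aa
    rw [MulAut.conj_apply] at this
    rw [← mul_assoc, ← mul_assoc, this, mul_inv_cancel_right]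
  have h2 : π q ∈ Cfsg.pCore 3 (S ⧸ Cfsg.pPrimeCore 3 S) := by
    rw [e, map_mul, map_mul, map_mul, map_inv, map_inv]
    exact mul_mem h1 ((inferInstance : (Cfsg.pCore 3 _).Normal).conj_mem _ (inv_mem h1) _)
  obtain ⟨k, hk⟩ := Solv.isPGroup_pCore 3 _ ⟨_, h2⟩
  have h3 : orderOf (π q) ∣ 3 ^ k := orderOf_dvd_of_pow_eq_one (congrArg Subtype.val hk)
  have h4 : orderOf (π q) ∣ 2 := orderOf_dvd_of_pow_eq_one (by rw [pow_two, ← map_mul, h.sq, map_one])
  exact (QuotientGroup.eq_one_iff q).1 (orderOf_eq_one_iff.1 (Nat.eq_one_of_dvd_coprimes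
    ((by norm_num : Nat.Coprime 3 2).pow_left k) h3 h4))

end Cfsg.Agent.Jb3
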